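import Mathlib
import Cfsg.Agent.Lib.LocStruct.SylowIn
import Cfsg.Agent.Lib.Core.CoprimeAbelian
import Cfsg.Agent.Lib.Core.CoprimeSylow
import Cfsg.Agent.Lib.ONS.Prim

/-! Definitions for primitive groups with a doubly transitive subconstituent.
See `blueprint/DSC/README.md`. -/

set_option autoImplicit false
set_option linter.unusedSectionVars false

namespace H45.DSC

open Subgroup MulAction H69
open scoped commutatorElement

section F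

variable {G : Type*} [Group G]

/-- `[X, y]` -/
abbrev cm (X : Subgroup G) (y : G) : Subgroup G := ⁅X, zpowers y⁆

/-- `W Q = Q'` -/
abbrev W (Q : Subgroup G) : Subgroup G := ⁅Q, Q⁆

/-- the subgroup generated by two elements -/
abbrev gn (y y' : G) : Subgroup G := zpowers y ⊔ zpowers y'

/-- a class of elements of odd order whose quotients lie in invariant 2-groups -/
structure Cls0 (D : Set G) : Prop where
  odd : ∀ y ∈ D, Odd (orderOf y)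
  conj : ∀ y ∈ D, ∀ g : G, g * y * g⁻¹ ∈ D
  tr : ∀ y ∈ D, ∀ y' ∈ D, ∃ g : G, y' = g * y * g⁻¹
  pair : ∀ y ∈ D, ∀ y' ∈ D, ∃ R : Subgroup G, IsPGroup 2 R ∧ y ∈ 𝐍(R) ∧ y⁻¹ * y' ∈ R
  sq : ∀ y ∈ D, ∀ y' ∈ D, Commute ((y⁻¹ * y') ^ 2) y

structure Cls (D : Set G) : Prop extends Cls0 D where
  cz : ∀ y ∈ D, ∀ X : Subgroup G, IsPGroup 2 X → y ∈ 𝐍(X) →
    ∀ c ∈ cm X y, Commute c y → ∀ a ∈ cm X y, Commute c a

/-- a minimal counterexample -/
structure Min (D : Set G) : Prop extends Cls D where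
  ne : D.Nonempty
  o2 : ∀ X : Subgroup G, IsPGroup 2 X → 𝐍(X) = ⊤ → X = ⊥
  loc : ∀ L : Subgroup G, L ≠ ⊤ → ∀ y ∈ D, y ∈ L → IsPGroup 2 (cm L y)
  bad : ∀ y ∈ D, ¬ IsPGroup 2 (cm (⊤ : Subgroup G) y)

/-- a block: `Q = [P, y]` for a point `y` normalising the Sylow 2-subgroup `P` -/
def Blk (D : Set G) (Q : Subgroup G) : Prop :=
  ∃ y ∈ D, ∃ P : Subgroup G, IsSylowIn 2 P ⊤ ∧ y ∈ 𝐍(P) ∧ Q = cm P y

/-- `y` is a point of the block `Q` -/
structure Pt (D : Set G) (Q : Subgroup G) (y : G) : Prop where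
  blk : Blk D Q
  mem : y ∈ D
  norm : y ∈ 𝐍(Q)

/-- the elements of `Q` centralised by `g` modulo `Q'` -/
def V (Q : Subgroup G) (g : G) : Subgroup G where
  carrier := {a | a ∈ Q ∧ ⁅g, a⁆ ∈ W Q}
  one_mem' := ⟨one_mem _, by rw [commutatorElement_one_right]; exact one_mem _⟩
  mul_mem' := by
    rintro a b ⟨ha, ha'⟩ ⟨hb, hb'⟩
    refine ⟨mul_mem ha hb, ?_⟩
    have e : ⁅g, a * b⁆ = ⁅g, a⁆ * (a * ⁅g, b⁆ * a⁻¹) := by simp only [commutatorElement_def]; group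
    rw [e]
    exact mul_mem ha' ((mem_normalizer_iff.1
      (H69.le_normalizer_commutator le_normalizer le_normalizer ha) _).1 hb')
  inv_mem' := by
    rintro a ⟨ha, ha'⟩
    refine ⟨inv_mem ha, ?_⟩
    have e : ⁅g, a⁻¹⁆ = a⁻¹ * ⁅g, a⁆⁻¹ * a⁻¹⁻¹ := by simp only [commutatorElement_def]; group
    rw [e]
    exact (mem_normalizer_iff.1
      (H69.le_normalizer_commutator le_normalizer le_normalizer (inv_mem ha)) _).1 (inv_mem ha')

theorem mem_V {Q : Subgroup G} {g a : G} : a ∈ V Q g ↔ a ∈ Q ∧ ⁅g, a⁆ ∈ W Q := Iff.rfl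

theorem V_le (Q : Subgroup G) (g : G) : V Q g ≤ Q := fun _ h => h.1

theorem W_le (Q : Subgroup G) : W Q ≤ Q := commutator_le_of_le le_rfl le_rfl

theorem norm_W (Q : Subgroup G) : 𝐍(Q) ≤ 𝐍(W Q) := H69.le_normalizer_commutator le_rfl le_rfl

theorem cj_cm (X : Subgroup G) (y g : G) : cm X y ^ᶜ g = cm (X ^ᶜ g) (g * y * g⁻¹) := by
  rw [cj_commutator, cj_zpowers]

theorem cj_W (Q : Subgroup G) (g : G) : W Q ^ᶜ g = W (Q ^ᶜ g) := cj_commutator _ _ _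

/-- two distinct blocks such that an involution of `W Q` normalises `Q'` -/
structure Pr (D : Set G) (Q Q' : Subgroup G) : Prop where
  b : Blk D Q
  b' : Blk D Q'
  ne : Q ≠ Q'
  ex : ∃ w ∈ W Q, w ≠ 1 ∧ w ∈ 𝐍(Q')

/-- `u ∈ Q` is centralised modulo `W Q` by `Q' ⊓ N(Q)` -/
def InU (Q Q' : Subgroup G) (u : G) : Prop :=
  u ∈ Q ∧ ∀ c ∈ Q', c ∈ 𝐍(Q) → ⁅c, u⁆ ∈ W Q

end F

section T

variable {A Γ : Type*} [Group A] [MulAction A Γ]

/-- a doubly transitive group with a non-abelian simple normal subgroup -/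
structure Co (Γ : Type*) [MulAction A Γ] (T : Subgroup A) : Prop where
  normal : T.Normal
  simple : IsSimpleGroup T
  nc : ¬ IsMulCommutative T
  faith : FaithfulSMul A Γ
  two : IsMultiplyPretransitive A Γ 2
  nt : Nontrivial Γ

/-- the centre of the point stabiliser in `T` -/
def Z (T : Subgroup A) (β : Γ) : Subgroup A := T ⊓ stabilizer A β ⊓ 𝐂(T ⊓ stabilizer A β)

theorem mem_Z {T : Subgroup A} {β : Γ} {z : A} :
    z ∈ Z T β ↔ z ∈ T ∧ z • β = β ∧ ∀ g ∈ T, g • β = β → Commute g z :=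
  ⟨fun h => ⟨h.1.1, h.1.2, fun g h1 h2 => h.2 g ⟨h1, h2⟩⟩,
    fun h => ⟨⟨h.1, h.2.1⟩, fun g hg => h.2.2 g hg.1 hg.2⟩⟩

/-- the two-point stabiliser in `T` -/
def U2 (T : Subgroup A) (β γ : Γ) : Subgroup A := T ⊓ stabilizer A β ⊓ stabilizer A γ

theorem mem_U2 {T : Subgroup A} {β γ : Γ} {u : A} :
    u ∈ U2 T β γ ↔ u ∈ T ∧ u • β = β ∧ u • γ = γ :=
  ⟨fun h => ⟨h.1.1, h.1.2, h.2⟩, fun h => ⟨⟨h.1, h.2.1⟩, h.2.2⟩⟩

/-- the line through two points -/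
def Ln (T : Subgroup A) (β γ : Γ) : Set Γ := {δ | ∀ u ∈ U2 T β γ, u • δ = δ}

/-- the preimage of the regular normal subgroup on a line -/
structure Ker (T : Subgroup A) (β γ : Γ) (K : Subgroup A) : Prop where
  le : K ≤ T ⊓ 𝐍(U2 T β γ)
  norm : 𝐍(U2 T β γ) ≤ 𝐍(K)
  ge : U2 T β γ ≤ K
  tr : ∀ δ ∈ Ln T β γ, ∃ k ∈ K, k • β = δ
  reg : ∀ k ∈ K, ∀ δ ∈ Ln T β γ, k • δ = δ → k ∈ U2 T β γ

/-- an `r`-group of translations moving `β` to `γ` -/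
structure Tr (T : Subgroup A) (β γ : Γ) (r : ℕ) (O : Subgroup A) : Prop where
  rp : r.Prime
  le : O ≤ T
  pg : IsPGroup r O
  norm : Z T β ≤ 𝐍(O)
  mv : ∃ k ∈ O, k • β = γ
  pw : ∀ a ∈ O, (a ^ r) • β = β
  ne : ∀ z ∈ Z T β, orderOf z ≠ r

end T

section O

variable {G Ω : Type*} [Group G] [MulAction G Ω]

/-- a primitive group with a doubly transitive subconstituent -/
structure Sc (G : Type*) [Group G] [MulAction G Ω] (α β : Ω) : Prop where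
  faith : FaithfulSMul G Ω
  prim : IsPreprimitive G Ω
  mv : ∃ h : G, h • α = α ∧ h • β ≠ β
  two : ∀ h h' : G, h • α = α → h' • α = α → h • β ≠ β → h' • β ≠ β →
    ∃ k : G, k • α = α ∧ k • β = β ∧ k • h • β = h' • β
  two' : IsMultiplyPretransitive (stabilizer G α) (orbit (stabilizer G α) β) 2

/-- the diagonal configuration -/
def Dg (G : Type*) [Group G] [MulAction G Ω] (α β : Ω) : Prop :=
  ∃ X : Subgroup G, X ≤ stabilizer G α ∧ stabilizer G α ≤ 𝐍(X) ∧ IsSimpleGroup X ∧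
    ¬ IsMulCommutative X ∧ ¬ X ≤ stabilizer G β ∧
    ∃ t ∈ X, t ≠ 1 ∧ ∀ e ∈ X, e • β = β → Commute e t

/-- a full strip of `N ⊓ H` -/
structure Strip (N H X : Subgroup G) : Prop where
  le : X ≤ N ⊓ H
  norm : N ⊓ H ≤ 𝐍(X)
  simple : IsSimpleGroup X
  nc : ¬ IsMulCommutative X
  proj : ∀ T, H74.ONS.Fac N T →
    X ≤ 𝐂(T) ∨ (X ⊓ 𝐂(T) = ⊥ ∧ ∀ t ∈ T, ∃ x ∈ X, t⁻¹ * x ∈ 𝐂(T))
  dec : ∀ d ∈ N ⊓ H, ∃ x ∈ X, x⁻¹ * d ∈ 𝐂(X)

end O

end H45.DSC
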