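import Mathlib
import Cfsg.Agent.Lib.DSC.Defs

/-! See `blueprint/DSC/README.md`. -/

set_option autoImplicit false
set_option linter.unusedSectionVars false
set_option linter.unusedVariables false

namespace H45.DSC

open Subgroup MulAction H69
open scoped commutatorElement

universe u

variable {G : Type u} [Group G] [Finite G] {D : Set G} {Q Q' X L : Subgroup G} {y y' : G}

namespace C1

theorem cop (hy : Odd (orderOf y)) (hX : IsPGroup 2 X) : (Nat.card (zpowers y)).Coprime (Nat.card X) := by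
  obtain ⟨n, hn⟩ := hX.exists_card_eq
  rw [Nat.card_zpowers, hn]
  exact (Nat.coprime_two_right.2 hy).pow_right n

theorem pow_mem (hn : y ∈ 𝐍(X)) (h : y⁻¹ * y' ∈ X) (n : ℕ) : (y ^ n)⁻¹ * y' ^ n ∈ X := by
  induction n with
  | zero => simp
  | succ n ih =>
    have := mul_mem (conj_mem_of_mem_normalizer' hn ih) h
    simpa only [pow_succ, mul_inv_rev, mul_assoc, mul_inv_cancel_left] using this

/-- an element of odd order of the coset `y X` is conjugate to `y` under `X` -/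
theorem conj (hy : Odd (orderOf y)) (hy' : Odd (orderOf y')) (hX : IsPGroup 2 X) (hn : y ∈ 𝐍(X))
    (h : y⁻¹ * y' ∈ X) : ∃ r ∈ X, y' = r * y * r⁻¹ := by
  obtain ⟨k, hk, e⟩ := H2.exists_conj_le_of_coprime (A := zpowers y) (K := X) (zpowers_le.2 hn) (B := zpowers y')
    (zpowers_le.2 (by simpa using mul_mem (mem_sup_right (mem_zpowers y)) (mem_sup_left (T := zpowers y) h)))
    (cop hy' hX) (Or.inl (H2.isSolvable_zpowers y'))
  have h1 : y⁻¹ * (k * y' * k⁻¹) ∈ zpowers y ⊓ X :=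
    mem_inf.2 ⟨mul_mem (inv_mem (mem_zpowers y)) (e y' (mem_zpowers y')), by
      have := mul_mem (mul_mem (conj_mem_of_mem_normalizer' hn hk) h) (inv_mem hk)
      simpa only [mul_assoc, mul_inv_cancel_left] using this⟩
  rw [H2.inf_eq_bot_of_coprime_card (cop hy hX), mem_bot, inv_mul_eq_one] at h1
  exact ⟨k⁻¹, inv_mem hk, by rw [h1]; group⟩

end C1

theorem cm_split (hy : Odd (orderOf y)) (hX : IsPGroup 2 X) (hn : y ∈ 𝐍(X)) {a : G} (ha : a ∈ X) :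
    ∃ b ∈ cm X y, ∃ c ∈ X, Commute c y ∧ a = b * c := by
  obtain ⟨b, hb, c, hc, e⟩ := H2.exists_commutator_mul_centralizer (zpowers_le.2 hn) (C1.cop hy hX)
    (Or.inl (H2.isSolvable_zpowers y)) ha
  exact ⟨b, hb, c, hc.1, (hc.2 y (mem_zpowers y)).symm, e⟩

theorem cm_cm (hy : Odd (orderOf y)) (hX : IsPGroup 2 X) (hn : y ∈ 𝐍(X)) : cm (cm X y) y = cm X y :=
  H2.commutator_commutator_eq (zpowers_le.2 hn) (C1.cop hy hX)

theorem cm_le (hn : y ∈ 𝐍(X)) : cm X y ≤ X :=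
  commutator_le_left_of_le_normalizer (zpowers_le.2 hn)

theorem norm_cm (hn : y ∈ 𝐍(X)) : y ∈ 𝐍(cm X y) :=
  normalizer_commutator_ge_right _ _ (mem_zpowers y)

theorem le_norm_cm (hy : y ∈ L) : L ≤ 𝐍(cm L y) :=
  normalizer_commutator_ge_left _ _

theorem le_norm_cm' (X : Subgroup G) (y : G) : X ≤ 𝐍(cm X y) :=
  normalizer_commutator_ge_left _ _

theorem Cls0.conj_in (h : Cls0 D) (hy : y ∈ D) (hy' : y' ∈ D) (h1 : y ∈ L) (h2 : y' ∈ L) :
    ∃ R : Subgroup G, R ≤ L ∧ IsPGroup 2 R ∧ y ∈ 𝐍(R) ∧ ∃ r ∈ cm R y, y' = r * y * r⁻¹ := by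
  obtain ⟨R, hR, hn, e⟩ := h.pair y hy y' hy'
  have hR' : IsPGroup 2 (R ⊓ L : Subgroup G) := hR.to_le inf_le_left
  have hn' : y ∈ 𝐍(R ⊓ L) :=
    le_normalizer_inf (zpowers_le.2 hn) (zpowers_le.2 (le_normalizer h1)) (mem_zpowers y)
  obtain ⟨r, hr, e'⟩ := C1.conj (h.odd y hy) (h.odd y' hy') hR' hn' (mem_inf.2 ⟨e, mul_mem (inv_mem h1) h2⟩)
  obtain ⟨b, hb, c, -, hc, rfl⟩ := cm_split (h.odd y hy) hR' hn' hr
  refine ⟨_, inf_le_right, hR', hn', b, hb, ?_⟩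
  rw [e', mul_assoc b, hc.eq]
  group

theorem Cls0.exists_syl (h : Cls0 D) (hy : y ∈ D) (hX : IsPGroup 2 X) (hn : y ∈ 𝐍(X)) :
    ∃ P : Subgroup G, IsSylowIn 2 P ⊤ ∧ X ≤ P ∧ y ∈ 𝐍(P) := by
  obtain ⟨P, hXP, ⟨hP, hyP⟩, hm⟩ :=
    Finite.exists_le_maximal (p := fun P : Subgroup G => IsPGroup 2 P ∧ y ∈ 𝐍(P)) ⟨hX, hn⟩
  have key : ∀ K : Subgroup G, IsPGroup 2 (P ⊔ K : Subgroup G) → y ∈ 𝐍(K) → K ≤ P := fun K h1 h2 =>
    le_sup_right.trans (hm ⟨h1, le_normalizer_sup (zpowers_le.2 hyP) (zpowers_le.2 h2) (mem_zpowers y)⟩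
      le_sup_left)
  refine ⟨P, ⟨le_top, hP, fun R h1 _ hR => ?_⟩, hXP, hyP⟩
  by_contra hne
  obtain ⟨g, hg, hg'⟩ := SetLike.exists_of_lt (lt_inf_normalizer_of_lt hR (lt_of_le_of_ne h1 (Ne.symm hne)))
  obtain ⟨K, k1, k2, k3, r, hr, e⟩ := h.conj_in hy (h.conj y hy g) hyP
    (mul_mem (mul_mem hg.2 hyP) (inv_mem hg.2))
  have hrP : r ∈ P := key K (hP.to_sup_of_normal_left' k2 k1) k3 (cm_le k3 hr)
  have hc : Commute (r⁻¹ * g) y := by
    calc r⁻¹ * g * y = r⁻¹ * (g * y * g⁻¹) * g := by group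
      _ = y * (r⁻¹ * g) := by rw [e]; group
  have := key (zpowers (r⁻¹ * g))
    (hR.to_le (sup_le h1 (zpowers_le.2 (mul_mem (inv_mem (h1 hrP)) hg.1))))
    (le_normalizer_of_le_centralizer le_rfl (by
      rw [centralizer_zpowers, mem_centralizer_singleton_iff]; exact hc.symm.eq)) (mem_zpowers _)
  exact hg' ((mul_mem_cancel_left (inv_mem hrP)).1 this)

theorem Cls0.cm_top_le (h : Cls0 D) (hy : y ∈ D) (hn : y ∈ 𝐍(X)) (hX : ∀ y' ∈ D, y⁻¹ * y' ∈ X) :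
    cm ⊤ y ≤ X := by
  refine commutator_le.2 fun g _ z hz => ?_
  obtain ⟨n, rfl⟩ := mem_powers_iff_mem_zpowers.2 hz
  have := conj_mem_of_mem_normalizer (pow_mem hn n) (C1.pow_mem hn (hX _ (h.conj y hy g)) n)
  rw [conj_pow] at this
  simpa only [commutatorElement_def, mul_assoc, mul_inv_cancel_left] using this

theorem Cls0.two_of_sq (h : Cls0 D) (hs : ∀ y ∈ D, ∀ y' ∈ D, (y⁻¹ * y') ^ 2 = 1) (hy : y ∈ D) :
    IsPGroup 2 (cm (⊤ : Subgroup G) y) := by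
  let S : Set G := {s | ∃ z ∈ D, s = y⁻¹ * z}
  have s2 : ∀ a ∈ S, a⁻¹ = a := by
    rintro _ ⟨z, hz, rfl⟩
    exact inv_eq_of_mul_eq_one_left (by rw [← pow_two, hs y hy z hz])
  have sc : ∀ a ∈ S, ∀ b ∈ S, a * b = b * a := by
    intro a ha b hb
    have e1 := s2 a ha
    have e2 := s2 b hb
    obtain ⟨z, hz, e3⟩ := ha
    obtain ⟨w, hw, e4⟩ := hb
    have e5 : a * b = z⁻¹ * w := by rw [← e1, e3, e4]; group
    have e6 : (a * b)⁻¹ = a * b := inv_eq_of_mul_eq_one_left (by rw [← pow_two, e5, hs z hz w hw])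
    rw [← e6, mul_inv_rev, e1, e2]
  have ec : ∀ a ∈ closure S, ∀ b ∈ closure S, Commute a b := fun a ha b hb =>
    Subtype.ext_iff.1 ((isMulCommutative_closure sc).is_comm.comm ⟨a, ha⟩ ⟨b, hb⟩)
  have e2 : ∀ a ∈ closure S, a ^ 2 = 1 := fun a ha => by
    induction ha using closure_induction with
    | mem a ha => rw [pow_two]; nth_rw 1 [← s2 a ha]; exact inv_mul_cancel a
    | one => exact one_pow 2
    | mul a b ha hb e e' => rw [(ec a ha b hb).mul_pow, e, e', mul_one]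
    | inv a _ e => rw [inv_pow, e, inv_one]
  have hE : IsPGroup 2 (closure S) := fun a => ⟨1, Subtype.ext (by simpa using e2 a.1 a.2)⟩
  refine hE.to_le (h.cm_top_le hy (mem_normalizer_of_cj_le (cj_le_iff.2 ((closure_le _).2 ?_)))
    fun z hz => subset_closure ⟨z, hz, rfl⟩)
  rintro _ ⟨z, hz, rfl⟩
  exact mem_cj.2 (subset_closure ⟨_, h.conj z hz y, by group⟩)

theorem Cls.sq_comm (h : Cls D) (hy : y ∈ D) (hX : IsPGroup 2 X) (hn : y ∈ 𝐍(X)) {a : G}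
    (ha : a ∈ cm X y) : Commute (a ^ 2) y := by
  have ho := h.odd y hy
  have hX0 : IsPGroup 2 (cm X y) := hX.to_le (cm_le hn)
  have hn0 := norm_cm hn
  have hw : (y * a) ^ orderOf y ∈ cm X y := by
    simpa [pow_orderOf_eq_one] using C1.pow_mem hn0 (y' := y * a) (by simpa using ha) (orderOf y)
  obtain ⟨k, hk⟩ := IsPGroup.iff_orderOf.1 hX0 ⟨_, hw⟩
  rw [Subgroup.orderOf_mk] at hk
  obtain ⟨m, hm⟩ := exists_pow_eq_self_of_coprime (x := (y * a) ^ orderOf y) (n := orderOf y)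
    (by rw [hk]; exact (Nat.coprime_two_right.2 ho).pow_right k)
  set v := ((y * a) ^ orderOf y) ^ m with hv
  have hvX : v ∈ cm X y := pow_mem hw m
  have c1 : Commute (y * a) v := ((Commute.refl _).pow_right _).pow_right _
  have hu : (y * a * v⁻¹) ^ orderOf y = 1 := by
    rw [c1.inv_right.mul_pow, inv_pow, hv, ← pow_mul _ m, mul_comm m, pow_mul, hm, mul_inv_cancel]
  obtain ⟨r, hr, e⟩ := C1.conj ho (ho.of_dvd_nat (orderOf_dvd_of_pow_eq_one hu)) hX0 hn0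
    (by simpa [mul_assoc] using mul_mem ha (inv_mem hvX))
  have c2 : Commute (r * y * r⁻¹) v := e ▸ c1.mul_left (Commute.refl v).inv_left
  have c3 : Commute (r⁻¹ * v * r) y := by
    calc r⁻¹ * v * r * y = r⁻¹ * (v * (r * y * r⁻¹)) * r := by group
      _ = y * (r⁻¹ * v * r) := by rw [← c2.eq]; group
  have c4 := h.cz y hy X hX hn _ (mul_mem (mul_mem (inv_mem hr) hvX) hr) c3
  have e1 : r⁻¹ * v * r = v := by
    calc r⁻¹ * v * r = r * (r⁻¹ * v * r) * r⁻¹ := by rw [← (c4 r hr).eq]; group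
      _ = v := by group
  rw [e1] at c3 c4
  have e2 : a = y⁻¹ * (r * y * r⁻¹) * v := by rw [← e]; group
  have c5 : Commute (y⁻¹ * (r * y * r⁻¹)) v := c3.symm.inv_left.mul_left c2
  rw [e2, c5.mul_pow]
  exact (h.sq y hy _ (h.conj y hy r)).mul_left (c3.pow_left 2)

end H45.DSC
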