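import Mathlib
import Cfsg.Agent.Lib.DSC.C1

/-! See `blueprint/DSC/README.md`. -/

set_option autoImplicit false
set_option linter.unusedSectionVars false
set_option linter.unusedVariables false

namespace H45.DSC

open Subgroup MulAction H69
open scoped commutatorElement

universe u

variable {G : Type u} [Group G] [Finite G] {D : Set G} {Q Q' X L : Subgroup G} {y y' : G}

private theorem ab_cop (hy : Odd (orderOf y)) (hX : IsPGroup 2 X) :
    (Nat.card (zpowers y)).Coprime (Nat.card X) := by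
  obtain ⟨n, hn⟩ := IsPGroup.iff_card.1 hX
  rw [Nat.card_zpowers, hn]
  exact (Nat.coprime_two_right.2 hy).pow_right n

private theorem ab_cent {c : G} (h : Commute c y) : c ∈ 𝐂(zpowers y) := by
  rintro _ ⟨n, rfl⟩
  exact (h.zpow_right n).symm

private theorem ab_le (hy : Odd (orderOf y)) (hX : IsPGroup 2 X) (hn : y ∈ 𝐍(X)) {c : G}
    (hc : c ∈ cm X y) (e : Commute c y) : c ∈ W (cm X y) :=
  H2.inf_centralizer_le_commutator (zpowers_le.2 (norm_cm hn)) (ab_cop hy (hX.to_le (cm_le hn)))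
    (cm_cm hy hX hn).ge ⟨hc, ab_cent e⟩

theorem Cls0.sq_one (h : Cls0 D) (hy : y ∈ D) (hy' : y' ∈ D) (hab : W (gn y y') ≤ 𝐂(W (gn y y'))) :
    (y⁻¹ * y') ^ 2 = 1 := by
  have m1 : y ∈ gn y y' := mem_sup_left (mem_zpowers y)
  obtain ⟨R, hR, pR, nR, r, hr, e⟩ := h.conj_in hy hy' m1 (mem_sup_right (mem_zpowers y'))
  have n1 : y ∈ 𝐍((W (gn y y') ⊓ R : Subgroup G)) :=
    inf_normalizer_le_normalizer_inf ⟨norm_W _ (le_normalizer m1), nR⟩
  have hs : y⁻¹ * y' ∈ cm (W (gn y y') ⊓ R) y := by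
    have := inv_mem (commutator_mem_commutator (H₁ := W (gn y y') ⊓ R)
      ⟨commutator_mono hR (zpowers_le.2 m1) hr, cm_le nR hr⟩ (inv_mem (mem_zpowers y)))
    rwa [show ⁅r, y⁻¹⁆⁻¹ = y⁻¹ * (r * y * r⁻¹) by simp only [commutatorElement_def]; group, ← e] at this
  have h1 := ab_le (h.odd y hy) (pR.to_le inf_le_right) n1 (pow_mem hs 2) (h.sq y hy y' hy')
  have le : cm (W (gn y y') ⊓ R) y ≤ W (gn y y') := (cm_le n1).trans inf_le_left
  rwa [W, commutator_eq_bot_iff_le_centralizer.2 (le.trans (hab.trans (centralizer_le le))),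
    mem_bot] at h1

private theorem ab_fix (h : Cls0 D)
    (hna : ∀ y ∈ D, ∀ y' ∈ D, y ≠ y' → ¬ W (gn y y') ≤ 𝐂(W (gn y y'))) (hy : y ∈ D) {R : Subgroup G}
    (hn : y ∈ 𝐍(R)) (hab : R ≤ 𝐂(R)) : R ≤ 𝐂(zpowers y) := fun a ha => by
  refine ab_cent (by_contra fun c => hna y hy _ (h.conj y hy a) (fun e => c ?_) ?_)
  · exact mul_inv_eq_iff_eq_mul.1 e.symm
  have l1 : gn y (a * y * a⁻¹) ≤ R ⊔ zpowers y :=
    sup_le le_sup_right (zpowers_le.2 (mul_mem (mul_mem (mem_sup_left ha) (mem_sup_right (mem_zpowers y)))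
      (inv_mem (mem_sup_left ha))))
  have l2 : W (gn y (a * y * a⁻¹)) ≤ R := by
    refine (commutator_mono l1 l1).trans (commutator_le.2 fun g hg g' hg' => ?_)
    have nz := zpowers_le.2 hn
    obtain ⟨r, hr, u, hu, rfl⟩ := (mem_sup_of_le_normalizer_left nz).1 hg
    obtain ⟨r', hr', u', hu', rfl⟩ := (mem_sup_of_le_normalizer_left nz).1 hg'
    have e : ⁅r * u, r' * u'⁆ = r * (u * r' * u⁻¹) * (u' * r⁻¹ * u'⁻¹) * r'⁻¹ := by
      obtain ⟨n, rfl⟩ := hu
      obtain ⟨m, rfl⟩ := hu'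
      simp only [commutatorElement_def]
      group
    rw [e]
    exact mul_mem (mul_mem (mul_mem hr (conj_mem_of_mem_normalizer (nz hu) hr'))
      (conj_mem_of_mem_normalizer (nz hu') (inv_mem hr))) (inv_mem hr')
  exact l2.trans (hab.trans (centralizer_le l2))

private theorem ab_three {B Y : Subgroup G} (e : cm Y y = Y) (h1 : B ≤ 𝐂(zpowers y))
    (h2 : ⁅B, Y⁆ ≤ 𝐂(zpowers y)) : B ≤ 𝐂(Y) := by
  have := commutator_commutator_eq_bot_of_rotate (H₁ := Y) (H₂ := zpowers y) (H₃ := B)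
    (by rw [commutator_comm (zpowers y), commutator_eq_bot_iff_le_centralizer.2 h1, commutator_bot_left])
    (commutator_eq_bot_iff_le_centralizer.2 h2)
  rw [show ⁅Y, zpowers y⁆ = Y from e, commutator_comm] at this
  exact commutator_eq_bot_iff_le_centralizer.1 this

theorem Cls0.cls (h : Cls0 D)
    (hna : ∀ y ∈ D, ∀ y' ∈ D, y ≠ y' → ¬ W (gn y y') ≤ 𝐂(W (gn y y'))) : Cls D := by
  refine ⟨h, fun y hy X hX hn c hc e a ha => ?_⟩
  have e0 := cm_cm (h.odd y hy) hX hn
  have p0 := hX.to_le (cm_le hn)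
  have n0 := zpowers_le.2 (norm_cm hn)
  generalize cm X y = Y at *
  have key : ∀ B : Subgroup G, B ≤ W Y → Y ≤ 𝐍(B) → zpowers y ≤ 𝐍(B) →
      B ≤ 𝐂(Y) ∧ B ≤ 𝐂(zpowers y) := by
    intro B
    induction B using WellFoundedLT.induction with
    | ind B ih =>
      intro b1 b2 b3
      by_cases b0 : B = ⊥
      · rw [b0]
        exact ⟨bot_le, bot_le⟩
      have lt := commutator_lt_of_isPGroup (p0.to_le (b1.trans (W_le Y))) p0 b2 b0
      obtain ⟨i1, i2⟩ := ih _ lt (lt.le.trans b1) (H69.le_normalizer_commutator b2 le_normalizer)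
        (H69.le_normalizer_commutator b3 n0)
      have z := commutator_eq_bot_iff_le_centralizer.2 i1
      have t := commutator_commutator_eq_bot_of_rotate (H₁ := Y) (H₂ := Y) (H₃ := B)
        (by rwa [commutator_comm Y B]) z
      rw [commutator_comm] at t
      have f := ab_fix h hna hy (b3 (mem_zpowers y))
        ((commutator_eq_bot_iff_le_centralizer.1 t).trans (centralizer_le b1))
      exact ⟨ab_three e0 f i2, f⟩
  have k := (key (W Y) le_rfl (le_normalizer.trans (norm_W Y)) (n0.trans (norm_W Y))).2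
  exact (ab_three e0 (zpowers_le.2 (ab_cent e))
    ((commutator_mono (zpowers_le.2 hc) le_rfl).trans k) (mem_zpowers c) a ha).symm

end H45.DSC
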