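import Mathlib
import Cfsg.Agent.Lib.DSC.C1

/-! See `blueprint/DSC/README.md`. -/

set_option autoImplicit false
set_option linter.unusedSectionVars false
set_option linter.unusedVariables false

namespace H45.DSC

open Subgroup MulAction H69
open scoped commutatorElement

universe u

variable {G : Type u} [Group G] [Finite G] {D : Set G} {Q Q' X L : Subgroup G} {y y' : G}

theorem Blk.p2 (hQ : Blk D Q) : IsPGroup 2 Q := by
  obtain ⟨y, -, P, hP, hn, rfl⟩ := hQ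
  exact hP.isP.to_le (cm_le hn)

theorem Blk.exists_pt (hQ : Blk D Q) : ∃ y, Pt D Q y := by
  obtain ⟨y, hy, P, hP, hn, e⟩ := id hQ
  exact ⟨y, hQ, hy, e ▸ norm_cm hn⟩

theorem Min.blk_cj (h : Min D) (hQ : Blk D Q) (g : G) : Blk D (Q ^ᶜ g) := by
  obtain ⟨y, hy, P, hP, hn, rfl⟩ := hQ
  exact ⟨_, h.conj y hy g, _, hP.cj_of_mem (mem_top g), cj_normalizer P g ▸ cj_mem g hn, cj_cm P y g⟩

theorem Min.pt_cj (h : Min D) (hy : Pt D Q y) (g : G) : Pt D (Q ^ᶜ g) (g * y * g⁻¹) := by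
  exact ⟨h.blk_cj hy.blk g, h.conj y hy.mem g, cj_normalizer Q g ▸ cj_mem g hy.norm⟩

theorem Min.blk_conj (h : Min D) (hQ : Blk D Q) (hQ' : Blk D Q') : ∃ g : G, Q' = Q ^ᶜ g := by
  have : Fact (Nat.Prime 2) := ⟨Nat.prime_two⟩
  obtain ⟨y, hy, P, hP, hn, rfl⟩ := hQ
  obtain ⟨y', hy', P', hP', hn', rfl⟩ := hQ'
  obtain ⟨g, -, rfl⟩ := hP.conj hP'
  obtain ⟨R, hR, -, h1, r, hr, rfl⟩ := h.toCls0.conj_in (h.conj y hy g) hy'
    (cj_normalizer P g ▸ cj_mem g hn) hn'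
  exact ⟨r * g, by rw [← cj_cj, cj_cm, cj_cm, cj_eq_of_mem_normalizer (hR (cm_le h1 hr))]⟩

theorem Min.eq_of_le (h : Min D) (hQ : Blk D Q) (hQ' : Blk D Q') (hle : Q ≤ Q') : Q = Q' := by
  obtain ⟨g, rfl⟩ := h.blk_conj hQ hQ'
  exact eq_of_le_of_card_ge hle (card_cj Q g).le

theorem Min.card_W (h : Min D) (hQ : Blk D Q) (hQ' : Blk D Q') : Nat.card (W Q) = Nat.card (W Q') := by
  obtain ⟨g, rfl⟩ := h.blk_conj hQ hQ'
  rw [← cj_W, card_cj]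

theorem Min.exists_blk (h : Min D) (hy : y ∈ D) (hX : IsPGroup 2 X) (hn : y ∈ 𝐍(X)) :
    ∃ Q, Pt D Q y ∧ X ≤ 𝐍(Q) ∧ cm X y ≤ Q := by
  obtain ⟨P, hP, h1, h2⟩ := h.toCls0.exists_syl hy hX hn
  exact ⟨_, ⟨⟨y, hy, P, hP, h2, rfl⟩, hy, norm_cm h2⟩, h1.trans (le_norm_cm' P y), commutator_mono h1 le_rfl⟩

theorem Min.cm_self (h : Min D) (hy : Pt D Q y) : cm Q y = Q := by
  obtain ⟨y₀, h0, P, hP, hn, e⟩ := hy.blk
  have e1 : cm Q y₀ = Q := e ▸ cm_cm (h.odd y₀ h0) hP.isP hn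
  obtain ⟨R, hR, -, h1, r, hr, rfl⟩ := h.toCls0.conj_in h0 hy.mem (e ▸ norm_cm hn) hy.norm
  have e2 := cj_eq_of_mem_normalizer (hR (cm_le h1 hr))
  rw [← e2, ← cj_cm, e1]

theorem Min.dec (h : Min D) (hy : Pt D Q y) {g : G} (hg : g ∈ 𝐍(Q)) :
    ∃ a ∈ Q, ∃ s ∈ 𝐍(Q), Commute s y ∧ g = a * s := by
  obtain ⟨R, hR, h2, h1, r, hr, e⟩ := h.toCls0.conj_in hy.mem (h.conj y hy.mem g) hy.norm
    (mul_mem (mul_mem hg hy.norm) (inv_mem hg))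
  obtain ⟨Q₃, h3, -, h4⟩ := h.exists_blk (X := Q ⊔ R) hy.mem
    (isPGroup_sup_of_le_normalizer_left hy.blk.p2 h2 hR)
    (normalizer_inf_normalizer_le_normalizer_sup Q R ⟨hy.norm, h1⟩)
  obtain rfl : Q = Q₃ := h.eq_of_le hy.blk h3.blk
    ((h.cm_self hy).ge.trans ((commutator_mono le_sup_left le_rfl).trans h4))
  have hq : r ∈ Q := h4 (commutator_mono le_sup_right le_rfl hr)
  refine ⟨r, hq, r⁻¹ * g, mul_mem (inv_mem (le_normalizer hq)) hg, ?_, by group⟩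
  calc r⁻¹ * g * y = r⁻¹ * (g * y * g⁻¹) * g := by group
    _ = y * (r⁻¹ * g) := by rw [e]; group

theorem Min.cm_norm (h : Min D) (hy : Pt D Q y) : cm 𝐍(Q) y ≤ Q := by
  refine commutator_le.2 fun g hg t ht => ?_
  obtain ⟨a, ha, s, -, hs, rfl⟩ := h.dec hy hg
  obtain ⟨k, rfl⟩ := ht
  have e : ⁅a * s, y ^ k⁆ = a * (y ^ k * a⁻¹ * (y ^ k)⁻¹) := by
    rw [commutatorElement_def, mul_assoc a, (hs.zpow_right k).eq]; group
  exact e ▸ mul_mem ha (conj_mem_of_mem_normalizer (zpow_mem hy.norm k) (inv_mem ha))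

theorem Min.norm_of_le (h : Min D) (hy : Pt D Q y) (h1 : Q ≤ X) (h2 : X ≤ 𝐍(Q)) : y ∈ 𝐍(X) := by
  exact le_normalizer_of_commutator_le_left
    ((commutator_mono h2 le_rfl).trans ((h.cm_norm hy).trans h1)) (mem_zpowers y)

end H45.DSC
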