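import Mathlib
import Cfsg.Agent.Lib.DSC.B1

/-! See `blueprint/DSC/README.md`. -/

set_option autoImplicit false
set_option linter.unusedSectionVars false
set_option linter.unusedVariables false

namespace H45.DSC

open Subgroup MulAction H69
open scoped commutatorElement

universe u

variable {G : Type u} [Group G] [Finite G] {D : Set G} {Q Q' X L : Subgroup G} {y y' : G}

theorem Min.mem_W (h : Min D) (hy : Pt D Q y) {a : G} : a ∈ W Q ↔ a ∈ Q ∧ Commute a y := by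
  have hc := h.cm_self hy
  constructor
  · have key : W Q ≤ Q ⊓ centralizer ({y} : Set G) := by
      have sq : ∀ b ∈ Q, b ^ 2 ∈ Q ⊓ centralizer ({y} : Set G) := fun b hb =>
        ⟨pow_mem hb 2, mem_centralizer_singleton_iff.2
          (h.toCls.sq_comm hy.mem hy.blk.p2 hy.norm (hc.symm ▸ hb)).eq⟩
      refine commutator_le.2 fun a ha b hb => ?_
      have e : ⁅a, b⁆ = a ^ 2 * (a⁻¹ * b) ^ 2 * (b ^ 2)⁻¹ := by
        simp only [commutatorElement_def, pow_two]; group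
      rw [e]
      exact mul_mem (mul_mem (sq a ha) (sq _ (mul_mem (inv_mem ha) hb))) (inv_mem (sq b hb))
    exact fun ha => ⟨(key ha).1, mem_centralizer_singleton_iff.1 (key ha).2⟩
  · rintro ⟨ha, hay⟩
    refine H2.inf_centralizer_le_commutator (A := zpowers y) (zpowers_le.2 hy.norm) ?_ hc.ge
      ⟨ha, ?_⟩
    · obtain ⟨k, hk⟩ := IsPGroup.iff_card.1 hy.blk.p2
      rw [hk, Nat.card_zpowers]
      exact Nat.Coprime.pow_right k (Nat.coprime_two_right.2 (h.odd y hy.mem))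
    · rintro _ ⟨n, rfl⟩
      exact (hay.zpow_right n).eq.symm

theorem Min.W_comm (h : Min D) (hQ : Blk D Q) {w a : G} (hw : w ∈ W Q) (ha : a ∈ Q) : Commute w a := by
  obtain ⟨y, hy⟩ := hQ.exists_pt
  have hc := h.cm_self hy
  exact h.cz y hy.mem Q hQ.p2 hy.norm w (hc.symm ▸ W_le Q hw) ((h.mem_W hy).1 hw).2 a (hc.symm ▸ ha)

theorem Min.sq_W (h : Min D) (hQ : Blk D Q) {a : G} (ha : a ∈ Q) : a ^ 2 ∈ W Q := by
  obtain ⟨y, hy⟩ := hQ.exists_pt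
  exact (h.mem_W hy).2 ⟨pow_mem ha 2,
    h.toCls.sq_comm hy.mem hQ.p2 hy.norm ((h.cm_self hy).symm ▸ ha)⟩

theorem Min.W_sq (h : Min D) (hQ : Blk D Q) {w : G} (hw : w ∈ W Q) : w * w = 1 := by
  let K : Subgroup G :=
    { carrier := {w | w ∈ W Q ∧ w * w = 1}
      one_mem' := ⟨one_mem _, mul_one _⟩
      mul_mem' := fun {a b} ha hb => ⟨mul_mem ha.1 hb.1, by
        rw [mul_assoc, ← mul_assoc b, (h.W_comm hQ hb.1 (W_le Q ha.1)).eq, mul_assoc, hb.2, mul_one,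
          ha.2]⟩
      inv_mem' := fun {a} ha => by rwa [inv_eq_of_mul_eq_one_right ha.2] }
  have hK : W Q ≤ K := commutator_le.2 fun a ha b hb => by
    have hc : ⁅a, b⁆ ∈ W Q := commutator_mem_commutator ha hb
    refine ⟨hc, ?_⟩
    have h1 := (h.W_comm hQ hc ha).eq
    have h2 := (h.W_comm hQ (h.sq_W hQ ha) hb).eq
    rw [pow_two] at h2
    calc ⁅a, b⁆ * ⁅a, b⁆ = ⁅a, b⁆ * a * (b * a⁻¹ * b⁻¹) := by
          simp only [commutatorElement_def, mul_assoc]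
      _ = a * a * b * (a * a)⁻¹ * b⁻¹ := by
          rw [h1]; simp only [commutatorElement_def]; group
      _ = 1 := by rw [h2]; group
  exact (hK hw).2

private theorem b2_mem {r : G} (hr : r ∈ X) (y : G) : y⁻¹ * (r * y * r⁻¹) ∈ cm X y := by
  have e : y⁻¹ * (r * y * r⁻¹) = ⁅r, y⁻¹⁆⁻¹ := by simp only [commutatorElement_def]; group
  rw [e]
  exact inv_mem (commutator_mem_commutator hr (inv_mem (mem_zpowers y)))

theorem Min.W_ne (h : Min D) (hQ : Blk D Q) : ∃ w ∈ W Q, w ≠ 1 := by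
  by_contra hc
  push Not at hc
  have h0 : W Q = ⊥ := eq_bot_iff.2 fun w hw => mem_bot.2 (hc w hw)
  obtain ⟨y₀, hy₀⟩ := h.ne
  refine h.bad y₀ hy₀ (h.toCls0.two_of_sq (fun y hy y' hy' => ?_) hy₀)
  obtain ⟨R, -, hR, hn, r, hr, rfl⟩ := h.toCls0.conj_in (L := ⊤) hy hy' trivial trivial
  obtain ⟨Q₃, hQ₃, -, hle⟩ := h.exists_blk hy hR hn
  have h1 : W Q₃ = ⊥ := by
    rw [← card_eq_one, ← h.card_W hQ hQ₃.blk, h0, card_bot]
  have h2 := h.sq_W hQ₃.blk (hle (b2_mem (cm_le hn hr) y))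
  rwa [h1, mem_bot] at h2

theorem Min.exists_out (h : Min D) (hQ : Blk D Q) : ∃ y ∈ D, y ∉ 𝐍(Q) := by
  by_contra hc
  push Not at hc
  obtain ⟨y, hy⟩ := hQ.exists_pt
  refine h.bad y hy.mem (hQ.p2.to_le (h.toCls0.cm_top_le hy.mem hy.norm fun y' hy' => ?_))
  obtain ⟨R, hL, -, hn, r, hr, rfl⟩ := h.toCls0.conj_in hy.mem hy' hy.norm (hc y' hy')
  exact h.cm_norm hy (b2_mem (hL (cm_le hn hr)) y)

theorem Min.exists_W_comm (h : Min D) (hQ : Blk D Q) {s : G} (hs : s ∈ 𝐍(Q)) (h2 : s * s = 1) :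
    ∃ w ∈ W Q, w ≠ 1 ∧ Commute w s := by
  obtain ⟨w, hw, w1⟩ := h.W_ne hQ
  have hw' : s * w * s⁻¹ ∈ W Q := (mem_normalizer_iff.1 (norm_W Q hs) w).1 hw
  by_cases e : s * w * s⁻¹ = w
  · exact ⟨w, hw, w1, (mul_inv_eq_iff_eq_mul.1 e).symm⟩
  refine ⟨w * (s * w * s⁻¹), mul_mem hw hw', fun e' => e ?_, ?_⟩
  · rw [← inv_eq_of_mul_eq_one_right e', inv_eq_of_mul_eq_one_right (h.W_sq hQ hw)]
  · have h1 := (h.W_comm hQ hw (W_le Q hw')).eq
    have h3 : s⁻¹ = s := inv_eq_of_mul_eq_one_right h2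
    change _ * s = s * _
    conv_lhs => rw [h1]
    rw [h3]
    calc s * w * s * w * s = s * (w * (s * w * s)) := by simp only [mul_assoc]
      _ = _ := rfl

theorem Min.cent_ne (h : Min D) {s : G} (h1 : s ≠ 1) (h2 : s * s = 1) : centralizer ({s} : Set G) ≠ ⊤ := by
  intro e
  have hp : IsPGroup 2 (zpowers s) := by
    rintro ⟨_, n, rfl⟩
    refine ⟨1, Subtype.ext ?_⟩
    change (s ^ n) ^ 2 ^ 1 = 1
    rw [pow_one, ← zpow_natCast, ← zpow_mul, mul_comm, zpow_mul, zpow_natCast, pow_two, h2, one_zpow]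
  have hn : 𝐍(zpowers s) = ⊤ := eq_top_iff.2 fun g _ => centralizer_le_normalizer _ (by
    rintro _ ⟨n, rfl⟩
    have : Commute g s := mem_centralizer_singleton_iff.1 (e ▸ mem_top g)
    exact (this.zpow_right n).eq.symm)
  exact h1 (zpowers_eq_bot.1 (h.o2 _ hp hn))

theorem Min.cm_loc (h : Min D) (hL : L ≠ ⊤) (hy : y ∈ D) (hyL : y ∈ L) : cm (cm L y) y = cm L y := by
  refine le_antisymm (cm_le (le_norm_cm hyL hyL)) (commutator_le.2 fun g hg z hz => ?_)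
  obtain ⟨R, hR, -, -, r, hr, e⟩ := h.toCls0.conj_in hy (h.conj y hy g) hyL
    (mul_mem (mul_mem hg hyL) (inv_mem hg))
  obtain ⟨n, rfl⟩ := hz
  have e' : ⁅g, y ^ n⁆ = ⁅r, y ^ n⁆ := by
    simp only [commutatorElement_def]
    rw [← conj_zpow, ← conj_zpow, e]
  change ⁅g, y ^ n⁆ ∈ _
  rw [e']
  exact commutator_mem_commutator (commutator_mono hR le_rfl hr) (zpow_mem (mem_zpowers y) n)

theorem Min.cm_eq (h : Min D) (hL : L ≠ ⊤) (hy : Pt D Q y) (hyL : y ∈ L) (hQ : Q ≤ L) :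
    cm L y = Q ∧ L ≤ 𝐍(Q) := by
  obtain ⟨Q₃, hQ₃, -, hle⟩ := h.exists_blk hy.mem (h.loc L hL y hy.mem hyL) (le_norm_cm hyL hyL)
  rw [h.cm_loc hL hy.mem hyL] at hle
  have h1 : Q ≤ cm L y := (h.cm_self hy).ge.trans (commutator_mono hQ le_rfl)
  have h2 := h.eq_of_le hy.blk hQ₃.blk (h1.trans hle)
  have h3 : cm L y = Q := le_antisymm (h2 ▸ hle) h1
  exact ⟨h3, h3 ▸ le_norm_cm hyL⟩

theorem Min.eq_of_proper (h : Min D) (hL : L ≠ ⊤) (hy : Pt D Q y) (hy' : Pt D Q' y') (h1 : y ∈ L)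
    (h2 : y' ∈ L) (hQ : Q ≤ L) (hQ' : Q' ≤ L) : Q = Q' := by
  obtain ⟨e1, n1⟩ := h.cm_eq hL hy h1 hQ
  obtain ⟨e2, -⟩ := h.cm_eq hL hy' h2 hQ'
  obtain ⟨R, hR, -, hn, r, hr, e⟩ := h.toCls0.conj_in hy.mem hy'.mem h1 h2
  have hrL : r ∈ L := hR (cm_le hn hr)
  have e3 := cj_cm L y r
  rw [cj_eq_of_mem hrL, ← e, e1, e2, cj_eq_of_mem_normalizer (n1 hrL)] at e3
  exact e3

theorem Min.cent_le (h : Min D) (hQ : Blk D Q) {w g : G} (hw : w ∈ W Q) (h1 : w ≠ 1) (hg : Commute g w) :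
    g ∈ 𝐍(Q) := by
  obtain ⟨y, hy⟩ := hQ.exists_pt
  exact (h.cm_eq (h.cent_ne h1 (h.W_sq hQ hw)) hy
    (mem_centralizer_singleton_iff.2 ((h.mem_W hy).1 hw).2.symm.eq)
    fun a ha => mem_centralizer_singleton_iff.2 (h.W_comm hQ hw ha).symm.eq).2
    (mem_centralizer_singleton_iff.2 hg.eq)

theorem Min.ti (h : Min D) (hQ : Blk D Q) (hQ' : Blk D Q') {w : G} (hw : w ∈ W Q) (hw' : w ∈ W Q')
    (h1 : w ≠ 1) : Q = Q' := by
  obtain ⟨y, hy⟩ := hQ.exists_pt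
  obtain ⟨y', hy'⟩ := hQ'.exists_pt
  exact h.eq_of_proper (h.cent_ne h1 (h.W_sq hQ hw)) hy hy'
    (mem_centralizer_singleton_iff.2 ((h.mem_W hy).1 hw).2.symm.eq)
    (mem_centralizer_singleton_iff.2 ((h.mem_W hy').1 hw').2.symm.eq)
    (fun a ha => mem_centralizer_singleton_iff.2 (h.W_comm hQ hw ha).symm.eq)
    fun a ha => mem_centralizer_singleton_iff.2 (h.W_comm hQ' hw' ha).symm.eq

theorem Min.pr_symm (h : Min D) (hp : Pr D Q Q') : Pr D Q' Q := by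
  obtain ⟨w, hw, w1, hn⟩ := hp.ex
  obtain ⟨w', hw', w1', hc⟩ := h.exists_W_comm hp.b' hn (h.W_sq hp.b hw)
  exact ⟨hp.b', hp.b, hp.ne.symm, w', hw', w1', h.cent_le hp.b hw w1 hc⟩

end H45.DSC
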