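import Mathlib
import Cfsg.Agent.Lib.DSC.C1

/-! See `blueprint/DSC/README.md`. -/

set_option autoImplicit false
set_option linter.unusedSectionVars false
set_option linter.unusedVariables false

namespace H45.DSC

open Subgroup MulAction H69
open scoped commutatorElement

universe u

variable {G : Type u} [Group G] [Finite G] {D : Set G} {Q Q' X L : Subgroup G} {y y' : G}

namespace C2

theorem map_cm {G' : Type*} [Group G'] (f : G →* G') (X : Subgroup G) (y : G) :
    (cm X y).map f = cm (X.map f) (f y) := by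
  rw [Subgroup.map_commutator, MonoidHom.map_zpowers]

theorem norm_map {G' : Type*} [Group G'] (f : G →* G') (hn : y ∈ 𝐍(X)) : f y ∈ 𝐍(X.map f) :=
  le_normalizer_map f (mem_map_of_mem f hn)

theorem norm_comap {G' : Type*} [Group G'] (f : G →* G') {X : Subgroup G'} (hn : f y ∈ 𝐍(X)) :
    y ∈ 𝐍(X.comap f) := mem_normalizer_iff.2 fun a => by
  rw [mem_comap, mem_comap, map_mul, map_mul, map_inv]
  exact mem_normalizer_iff.1 hn _

end C2

open C2

theorem Cls.restrict (h : Cls D) (L : Subgroup G) : Cls {z : L | (z : G) ∈ D} := by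
  refine ⟨⟨fun y hy => ?_, fun y hy g => h.conj y hy g, fun y hy y' hy' => ?_, fun y hy y' hy' => ?_,
    fun y hy y' hy' => Subtype.ext (h.sq y hy y' hy')⟩, fun y hy X hX hn c hc e a ha => ?_⟩
  · rw [← Subgroup.orderOf_coe]
    exact h.odd y hy
  · obtain ⟨R, hR, -, hn, r, hr, e⟩ := h.toCls0.conj_in hy hy' y.2 y'.2
    exact ⟨⟨r, hR (cm_le hn hr)⟩, Subtype.ext e⟩
  · obtain ⟨R, h2, hn, hm⟩ := h.pair y hy y' hy'
    exact ⟨R.comap L.subtype, h2.comap_subtype, norm_comap L.subtype hn, hm⟩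
  · have hc' := mem_map_of_mem L.subtype hc
    have ha' := mem_map_of_mem L.subtype ha
    rw [map_cm] at hc' ha'
    exact Subtype.ext (h.cz y hy (X.map L.subtype) (hX.map _) (norm_map L.subtype hn) c hc'
      (e.map L.subtype) a ha')

theorem Cls.quot (h : Cls D) (N : Subgroup G) [N.Normal] (hN : IsPGroup 2 N) :
    Cls (QuotientGroup.mk' N '' D) := by
  have hs := QuotientGroup.mk'_surjective N
  refine ⟨⟨?_, ?_, ?_, ?_, ?_⟩, ?_⟩
  · rintro _ ⟨y, hy, rfl⟩
    exact (h.odd y hy).of_dvd_nat (orderOf_map_dvd _ y)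
  · rintro _ ⟨y, hy, rfl⟩ g
    obtain ⟨g, rfl⟩ := hs g
    exact ⟨_, h.conj y hy g, by rw [map_mul, map_mul, map_inv]⟩
  · rintro _ ⟨y, hy, rfl⟩ _ ⟨y', hy', rfl⟩
    obtain ⟨g, rfl⟩ := h.tr y hy y' hy'
    exact ⟨QuotientGroup.mk' N g, by rw [map_mul, map_mul, map_inv]⟩
  · rintro _ ⟨y, hy, rfl⟩ _ ⟨y', hy', rfl⟩
    obtain ⟨R, h2, hn, hm⟩ := h.pair y hy y' hy'
    refine ⟨R.map (QuotientGroup.mk' N), h2.map _, norm_map _ hn, ?_⟩
    rw [← map_inv, ← map_mul]
    exact mem_map_of_mem _ hm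
  · rintro _ ⟨y, hy, rfl⟩ _ ⟨y', hy', rfl⟩
    have := (h.sq y hy y' hy').map (QuotientGroup.mk' N)
    rwa [map_pow, map_mul, map_inv] at this
  · rintro _ ⟨y, hy, rfl⟩ X hX hn c hc e a ha
    have h2 : IsPGroup 2 (X.comap (QuotientGroup.mk' N)) :=
      hX.comap_of_ker_isPGroup _ (by rwa [QuotientGroup.ker_mk'])
    have hn' := norm_comap _ hn
    have e1 : (cm (X.comap (QuotientGroup.mk' N)) y).map (QuotientGroup.mk' N) =
        cm X (QuotientGroup.mk' N y) := by rw [map_cm, map_comap_eq_self_of_surjective hs]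
    have h3 : IsPGroup 2 (cm (X.comap (QuotientGroup.mk' N)) y) := h2.to_le (cm_le hn')
    have hcop : (Nat.card (zpowers y)).Coprime (Nat.card (cm (X.comap (QuotientGroup.mk' N)) y)) := by
      obtain ⟨k, hk⟩ := h3.exists_card_eq
      rw [hk, Nat.card_zpowers]
      exact ((Nat.coprime_two_right).2 (h.odd y hy)).pow_right k
    have e2 := H2.map_inf_centralizer_of_coprime (A := zpowers y) (zpowers_le.2 (norm_cm hn')) hcop
      (Or.inl (inferInstance : Group.IsSolvable (zpowers y))) (QuotientGroup.mk' N)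
    have hc' : c ∈ (cm (X.comap (QuotientGroup.mk' N)) y ⊓ 𝐂(zpowers y)).map (QuotientGroup.mk' N) := by
      rw [e2, e1, MonoidHom.map_zpowers]
      refine ⟨hc, mem_centralizer_iff.2 ?_⟩
      rintro _ ⟨k, rfl⟩
      exact (e.symm.zpow_left k).eq
    obtain ⟨c, ⟨hc1, hc2⟩, rfl⟩ := hc'
    rw [← e1] at ha
    obtain ⟨a, ha, rfl⟩ := ha
    exact (h.cz y hy _ h2 hn' c hc1 (show Commute c y from
      (mem_centralizer_iff.1 hc2 y (mem_zpowers y)).symm) a ha).map _

theorem C2.main_aux (H : ∀ (G : Type u) [Group G] [Finite G] (D : Set G), ¬ Min D) (n : ℕ) :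
    ∀ (G : Type u) [Group G] [Finite G] (D : Set G), Nat.card G = n → Cls D → ∀ y ∈ D,
      IsPGroup 2 (cm (⊤ : Subgroup G) y) := by
  induction n using Nat.strong_induction_on with
  | _ n ih =>
  intro G _ _ D hn h y hy
  by_cases hN : ∃ N : Subgroup G, IsPGroup 2 N ∧ 𝐍(N) = ⊤ ∧ N ≠ ⊥
  · obtain ⟨N, h2, h3, h4⟩ := hN
    have : N.Normal := normalizer_eq_top_iff.1 h3
    have hlt : Nat.card (G ⧸ N) < n := by
      rw [← hn, card_eq_card_quotient_mul_card_subgroup N]
      exact (Nat.lt_mul_iff_one_lt_right Nat.card_pos).2 ((one_lt_card_iff_ne_bot N).2 h4)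
    have := ih _ hlt (G ⧸ N) _ rfl (h.quot N h2) _ ⟨y, hy, rfl⟩
    refine (this.comap_of_ker_isPGroup (QuotientGroup.mk' N) (by rwa [QuotientGroup.ker_mk'])).to_le
      (map_le_iff_le_comap.1 ?_)
    rw [map_cm]
    exact commutator_mono le_top le_rfl
  by_contra hb
  refine H G D ⟨h, ⟨y, hy⟩, fun X h2 h3 => by_contra fun h4 => hN ⟨X, h2, h3, h4⟩,
    fun L hL z hz hzL => ?_, fun z hz h2 => hb ?_⟩
  · have hlt : Nat.card L < n := by
      rw [← hn]
      exact lt_of_le_of_ne (card_le_card_group L) fun e => hL (eq_top_of_card_eq L e)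
    have := (ih _ hlt L _ rfl (h.restrict L) ⟨z, hzL⟩ hz).map L.subtype
    rwa [map_cm, ← MonoidHom.range_eq_map, range_subtype] at this
  · obtain ⟨g, rfl⟩ := h.tr z hz y hy
    have := isPGroup_cj h2 g
    rwa [cj_cm, cj_top] at this

theorem Cls.main_of (H : ∀ (G : Type u) [Group G] [Finite G] (D : Set G), ¬ Min D) (h : Cls D)
    (hy : y ∈ D) : IsPGroup 2 (cm (⊤ : Subgroup G) y) :=
  C2.main_aux H _ G D rfl h y hy

end H45.DSC
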