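import Mathlib
import Cfsg.Agent.Lib.DSC.Defs
import Cfsg.Agent.S0700
import Cfsg.Agent.Lib.Inv73.ZStar

/-! See `blueprint/DSC/README.md`. -/

set_option autoImplicit false
set_option linter.unusedSectionVars false
set_option linter.unusedVariables false

namespace H45.DSC

open Subgroup MulAction H69
open scoped commutatorElement

universe u

variable {A Γ : Type*} [Group A] [Finite A] [MulAction A Γ] [Finite Γ] {T : Subgroup A} {β γ : Γ}

theorem Co.T1_cj (h : Co Γ T) {g x : A} : g⁻¹ * x * g ∈ T ↔ x ∈ T :=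
  ⟨fun k => by simpa [mul_assoc] using h.normal.conj_mem _ k g, fun k => h.normal.conj_mem' _ k g⟩

theorem T1_fix {g x : A} : (g⁻¹ * x * g) • β = β ↔ x • g • β = g • β := by
  rw [mul_smul, mul_smul, inv_smul_eq_iff]

theorem Co.T1_two (h : Co Γ T) {a b c d : Γ} (h1 : a ≠ b) (h2 : c ≠ d) : ∃ g : A, g • a = c ∧ g • b = d :=
  is_two_pretransitive_iff.1 h.two h1 h2

theorem Co.Z_cj (h : Co Γ T) (β : Γ) (g : A) : Z T β ^ᶜ g = Z T (g • β) := by
  ext x
  rw [mem_cj, mem_Z, mem_Z, h.T1_cj, T1_fix]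
  refine and_congr_right fun _ => and_congr_right fun _ => ⟨fun k e h1 h2 => ?_, fun k e h1 h2 => ?_⟩
  · have := k _ (h.T1_cj.2 h1) (T1_fix.2 h2)
    calc e * x = g * ((g⁻¹ * e * g) * (g⁻¹ * x * g)) * g⁻¹ := by group
      _ = x * e := by rw [this.eq]; group
  · have := k _ (h.normal.conj_mem e h1 g) (by rw [mul_smul, inv_smul_smul, mul_smul, h2])
    calc e * (g⁻¹ * x * g) = g⁻¹ * ((g * e * g⁻¹) * x) * g := by group
      _ = g⁻¹ * x * g * e := by rw [this.eq]; group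

theorem Co.U2_cj (h : Co Γ T) (β γ : Γ) (g : A) : U2 T β γ ^ᶜ g = U2 T (g • β) (g • γ) := by
  ext x
  rw [mem_cj, mem_U2, mem_U2, h.T1_cj, T1_fix, T1_fix]

theorem Co.T1_prim (h : Co Γ T) : IsPreprimitive T Γ := by
  classical
  haveI := Fintype.ofFinite Γ
  haveI := h.faith
  haveI := h.simple
  let e : A ≃* (toPermHom A Γ).range := MonoidHom.ofInjective toPerm_injective
  have he : ∀ (a : A) (x : Γ), e a • x = a • x := fun _ _ => rfl
  let e' : T ≃* T.map e.toMonoidHom := T.equivMapOfInjective _ e.injective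
  haveI : (T.map e.toMonoidHom).Normal := h.normal.map _ e.surjective
  haveI : IsSimpleGroup (T.map e.toMonoidHom) := e'.symm.isSimpleGroup
  rcases Cfsg.Agent.S0700.result (toPermHom A Γ).range (is_two_pretransitive_iff.2 fun h1 h2 =>
      let ⟨g, k⟩ := h.T1_two h1 h2; ⟨e g, k⟩) (T.map e.toMonoidHom)
    (nontrivial_iff_ne_bot _ |>.1 inferInstance) (fun M hM le =>
      (hM.subgroupOf (T.map e.toMonoidHom)).eq_bot_or_eq_top.imp
        (fun k => (subgroupOf_eq_bot.1 k).eq_bot_of_le le) fun k => le_antisymm le (subgroupOf_eq_top.1 k))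
    with ⟨k, -⟩ | ⟨-, k⟩
  · exact absurd ⟨⟨fun a b => e'.injective (by rw [map_mul, map_mul]; exact k.1.1 _ _)⟩⟩ h.nc
  · exact IsPreprimitive.of_surjective (M := T.map e.toMonoidHom) (φ := e'.symm)
      (f := ⟨id, fun m x => by
        obtain ⟨a, rfl⟩ := e'.surjective m
        rw [MulEquiv.symm_apply_apply]
        rfl⟩) Function.surjective_id

theorem Co.trans (h : Co Γ T) (β γ : Γ) : ∃ g ∈ T, g • β = γ :=
  let ⟨g, e⟩ := h.T1_prim.toIsPretransitive.exists_smul_eq β γ; ⟨g, g.2, e⟩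

theorem Co.T1_cen (h : Co Γ T) {t : T} (hc : centralizer {t} = ⊤) : t = 1 := by
  haveI := h.simple
  have k : t ∈ center T := mem_center_iff.2 fun g => mem_centralizer_singleton_iff.1 (hc ▸ mem_top g)
  rcases (inferInstance : (center T).Normal).eq_bot_or_eq_top with e | e
  · exact mem_bot.1 (e ▸ k)
  · exact absurd ⟨⟨fun a b => mem_center_iff.1 (e ▸ mem_top b) a⟩⟩ h.nc

theorem Co.cent_eq (h : Co Γ T) {t : A} (ht : t ∈ T) (h1 : t ≠ 1)
    (hc : ∀ e ∈ T, e • β = β → Commute e t) {g : A} (hg : g ∈ T) (hgt : Commute g t) : g • β = β := by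
  haveI := h.T1_prim
  haveI := h.nt
  by_contra n
  refine h1 (congrArg Subtype.val (h.T1_cen (t := ⟨t, ht⟩)
    ((IsPreprimitive.isCoatom_stabilizer_of_isPreprimitive T β).2 _ (lt_of_le_not_ge (fun e he =>
      mem_centralizer_singleton_iff.2 (Subtype.ext (hc e e.2 he))) fun k => n ?_))))
  exact k (x := ⟨g, hg⟩) (mem_centralizer_singleton_iff.2 (Subtype.ext hgt))

theorem Co.mem_Z_of (h : Co Γ T) {t : A} (ht : t ∈ T) (h1 : t ≠ 1)
    (hc : ∀ e ∈ T, e • β = β → Commute e t) : t ∈ Z T β :=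
  mem_Z.2 ⟨ht, h.cent_eq ht h1 hc ht (Commute.refl t), hc⟩

theorem Co.semi (h : Co Γ T) {z : A} (hz : z ∈ Z T β) (h1 : z ≠ 1) (hγ : z • γ = γ) : γ = β := by
  haveI := h.faith
  by_contra n
  refine h1 (eq_of_smul_eq_smul fun δ : Γ => ?_)
  rw [one_smul]
  by_cases e : δ = β
  · rw [e, (mem_Z.1 hz).2.1]
  obtain ⟨g, g1, g2⟩ := h.T1_two (Ne.symm n) e
  have k := cj_mem g hz
  rw [h.Z_cj, g1, mem_Z] at k
  refine h.cent_eq k.1 (by simpa using h1) k.2.2 (mem_Z.1 hz).1 ((mem_Z.1 hz).2.2 _ k.1 ?_).symm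
  rw [← g2, mul_smul, inv_smul_smul, mul_smul, hγ]

theorem Co.ne_two (h : Co Γ T) {z : A} (hz : z ∈ Z T β) : orderOf z ≠ 2 := by
  intro e
  haveI := h.simple
  obtain ⟨z1, z2, z3⟩ := mem_Z.1 hz
  have h1 : z ≠ 1 := H9.ne_one_of_orderOf_two e
  have e' : orderOf (⟨z, z1⟩ : T) = 2 := by rwa [orderOf_mk]
  have k := H73.centralizer_sup_oddCore_eq_top' e' fun g c => by
    have k1 := cj_mem (g : A) hz
    rw [h.Z_cj] at k1
    have k2 := h.semi k1 (by simpa using h1) (h.cent_eq z1 h1 z3 (mem_Z.1 k1).1 (congrArg Subtype.val c))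
    exact Subtype.ext (z3 g g.2 k2.symm).mul_inv_cancel
  rcases (Cfsg.pPrimeCore_normal 2 T).eq_bot_or_eq_top with k1 | k1
  · rw [Cfsg.oddCore, k1, sup_bot_eq] at k
    exact h1 (congrArg Subtype.val (h.T1_cen k))
  · have hodd := H1.odd_card_oddCore (G := T)
    rw [Cfsg.oddCore, k1] at hodd
    exact (H9.odd_card_iff_forall_orderOf_ne_two _).1 hodd _ (mem_top _) e'

end H45.DSC
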