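import Mathlib
import Cfsg.Agent.Lib.DSC.T1

/-! See `blueprint/DSC/README.md`. -/

set_option autoImplicit false
set_option linter.unusedSectionVars false
set_option linter.unusedVariables false

namespace H45.DSC

open Subgroup MulAction H69
open scoped commutatorElement

universe u

variable {G : Type*} {Ω : Type u} [Group G] [Finite G] [MulAction G Ω] [Finite Ω] {α β : Ω}

theorem Sc.not_dg
    (H : ∀ (A Γ : Type u) [Group A] [Finite A] [MulAction A Γ] [Finite Γ] (T : Subgroup A),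
      Co Γ T → ∀ β : Γ, Z T β = ⊥)
    (h : Sc G α β) : ¬ Dg G α β := by
  rintro ⟨X, hX, hn, hs, hc, hm, t, ht, t1, hct⟩
  let φ := (toPermHom (stabilizer G α) (orbit (stabilizer G α) β)).rangeRestrict
  let ψ := φ.comp (inclusion hX)
  let b : orbit (stabilizer G α) β := ⟨β, mem_orbit_self β⟩
  have sm : ∀ (g : stabilizer G α) (v : orbit (stabilizer G α) β), φ g • v = g • v := fun _ _ => rfl
  have fx : ∀ x : X, ψ x • b = b → (x : G) • β = β := fun x e => congrArg Subtype.val e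
  have inj : Function.Injective ψ := by
    rw [← MonoidHom.ker_eq_bot_iff]
    refine (hs.eq_bot_or_eq_top_of_normal ψ.ker inferInstance).resolve_right fun e => hm fun x hx => ?_
    exact fx ⟨x, hx⟩ (by rw [MonoidHom.mem_ker.1 (e.ge (mem_top _)), one_smul])
  have co : Co (orbit (stabilizer G α) β) ψ.range := by
    refine ⟨⟨?_⟩, (MonoidHom.ofInjective inj).symm.isSimpleGroup, fun c => hc ⟨⟨fun x y => inj ?_⟩⟩,
      inferInstance, ?_, ?_⟩
    · rintro _ ⟨x, rfl⟩ a
      obtain ⟨g, rfl⟩ := MonoidHom.rangeRestrict_surjective _ a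
      refine ⟨⟨g * x * (g : G)⁻¹, conj_mem_of_mem_normalizer (hn g.2) x.2⟩, ?_⟩
      show φ (g * inclusion hX x * g⁻¹) = φ g * φ (inclusion hX x) * (φ g)⁻¹
      rw [map_mul, map_mul, map_inv]
    · rw [map_mul, map_mul]
      exact congrArg Subtype.val (c.1.1 ⟨_, x, rfl⟩ ⟨_, y, rfl⟩)
    · rw [is_two_pretransitive_iff]
      intro a b c d h1 h2
      obtain ⟨g, e1, e2⟩ := is_two_pretransitive_iff.1 h.two' h1 h2
      exact ⟨φ g, e1, e2⟩
    · obtain ⟨g, g1, g2⟩ := h.mv
      exact ⟨(⟨g, g1⟩ : stabilizer G α) • b, b, fun e => g2 (congrArg Subtype.val e)⟩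
  have n1 : ψ ⟨t, ht⟩ ≠ 1 := fun e => t1 (congrArg Subtype.val (inj (e.trans (map_one ψ).symm)))
  have m := co.mem_Z_of (β := b) ⟨⟨t, ht⟩, rfl⟩ n1 (by
    rintro _ ⟨x, rfl⟩ e
    exact (show Commute x ⟨t, ht⟩ from Subtype.ext (hct x x.2 (fx x e))).map ψ)
  rw [H _ _ _ co b] at m
  exact n1 m

end H45.DSC
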