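import Mathlib
import Cfsg.Agent.Lib.DSC.B2

/-! See `blueprint/DSC/README.md`. -/

set_option autoImplicit false
set_option linter.unusedSectionVars false
set_option linter.unusedVariables false

namespace H45.DSC

open Subgroup MulAction H69
open scoped commutatorElement

universe u

variable {G : Type u} [Group G] [Finite G] {D : Set G} {Q Q' X L : Subgroup G} {y y' : G}

theorem Min.V_eq (h : Min D) (hQ : Blk D Q) {a s : G} (ha : a ∈ Q) (hs : s ∈ 𝐍(Q)) :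
    V Q (a * s) = V Q s := by
  ext x
  refine and_congr_right fun hx => ?_
  have e : ⁅a * s, x⁆ = ⁅a, s * x * s⁻¹⁆ * ⁅s, x⁆ := by simp only [commutatorElement_def]; group
  rw [e]
  exact Subgroup.mul_mem_cancel_left _ (commutator_mem_commutator ha (conj_mem_of_mem_normalizer hs hx))

theorem Min.V_norm (h : Min D) (hy : Pt D Q y) {g : G} (hg : g ∈ 𝐍(Q)) : y ∈ 𝐍(V Q g) := by
  obtain ⟨a, ha, s, hs, hc, rfl⟩ := h.dec hy hg
  rw [h.V_eq hy.blk ha hs]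
  refine mem_normalizer_of_cj_le fun x hx => ?_
  obtain ⟨b, hb, rfl⟩ := mem_cj'.1 hx
  refine ⟨conj_mem_of_mem_normalizer hy.norm hb.1, ?_⟩
  have e : ⁅s, y * b * y⁻¹⁆ = y * ⁅s, b⁆ * y⁻¹ := by
    rw [conjugate_commutatorElement, ← hc.eq, mul_inv_cancel_right]
  rw [e]
  exact conj_mem_of_mem_normalizer (norm_W Q hy.norm) hb.2

theorem Min.W_le_V (h : Min D) (hQ : Blk D Q) {g : G} (hg : g ∈ 𝐍(Q)) : W Q ≤ V Q g := fun w hw =>
  ⟨W_le Q hw, by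
    rw [commutatorElement_def]
    exact mul_mem (conj_mem_of_mem_normalizer (norm_W Q hg) hw) (inv_mem hw)⟩

theorem Min.split (h : Min D) (hy : Pt D Q y) (hX : X ≤ Q) (hn : y ∈ 𝐍(X)) {a : G} (ha : a ∈ X) :
    ∃ b ∈ cm X y, ∃ w ∈ W Q, w ∈ X ∧ a = b * w := by
  obtain ⟨b, hb, c, hc, e1, e2⟩ := cm_split (h.odd y hy.mem) (hy.blk.p2.to_le hX) hn ha
  exact ⟨b, hb, c, (h.mem_W hy).2 ⟨hX hc, e1⟩, hc, e2⟩

theorem Min.V_cent (h : Min D) (hy : Pt D Q y) {s b : G} (hs : s ∈ 𝐍(Q)) (hc : Commute s y)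
    (hb : b ∈ cm (V Q s) y) : Commute b s := by
  have k : cm (V Q s) y ≤ centralizer {s} := commutator_le.2 fun a ha z hz => by
    obtain ⟨n, rfl⟩ := mem_zpowers_iff.1 hz
    rw [mem_centralizer_singleton_iff]
    have c1 : s * y ^ n = y ^ n * s := (hc.zpow_right n).eq
    have c2 : ⁅s, a⁆ * y ^ n = y ^ n * ⁅s, a⁆ := (((h.mem_W hy).1 ha.2).2.zpow_right n).eq
    have m : ⁅a, y ^ n⁆ ∈ Q := cm_le hy.norm (commutator_mem_commutator ha.1 hz)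
    have c3 := (h.W_comm hy.blk ha.2 m).eq
    generalize y ^ n = z at c1 c2 c3
    obtain ⟨w, hw⟩ : ∃ w, w = ⁅s, a⁆ := ⟨_, rfl⟩
    rw [← hw] at c2 c3
    have e1 : s * a * s⁻¹ = w * a := by rw [hw, commutatorElement_def]; group
    have e2 : s * z * s⁻¹ = z := by rw [c1]; group
    have e3 : s * ⁅a, z⁆ * s⁻¹ = ⁅a, z⁆ := by
      rw [conjugate_commutatorElement, e1, e2]
      calc ⁅w * a, z⁆ = w * ⁅a, z⁆ * (z * w⁻¹ * z⁻¹) := by simp only [commutatorElement_def]; group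
        _ = ⁅a, z⁆ * (w * z) * w⁻¹ * z⁻¹ := by rw [c3]; group
        _ = ⁅a, z⁆ := by rw [c2]; group
    exact (mul_inv_eq_iff_eq_mul.1 e3).symm
  exact mem_centralizer_singleton_iff.1 (k hb)

theorem Min.comm_mem_V (h : Min D) (hQ : Blk D Q) {g a : G} (hg : g ∈ 𝐍(Q)) (ha : a ∈ V Q (g * g)) :
    ⁅g, a⁆ ∈ V Q g := by
  have m : ⁅g, a⁆ ∈ Q := by
    rw [commutatorElement_def]
    exact mul_mem (conj_mem_of_mem_normalizer hg ha.1) (inv_mem ha.1)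
  refine ⟨m, ?_⟩
  have e : ⁅g, ⁅g, a⁆⁆ = ⁅g * g, a⁆ * ⁅g, a⁆⁻¹ ^ 2 := by simp only [commutatorElement_def, sq]; group
  rw [e]
  exact mul_mem ha.2 (h.sq_W hQ (inv_mem m))

theorem Min.V_ne (h : Min D) (hy : Pt D Q y) {s : G} (hs : s ∈ 𝐍(Q)) (h2 : s * s = 1) :
    cm (V Q s) y ≠ ⊥ := by
  intro hb
  have k1 : V Q s ≤ W Q := fun a ha => by
    obtain ⟨b, hb', w, hw, -, rfl⟩ := h.split hy (V_le Q s) (h.V_norm hy hs) ha
    rw [hb, mem_bot] at hb'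
    rwa [hb', one_mul]
  have k2 : Q ≤ W Q := fun a ha => k1 ⟨ha, k1 (h.comm_mem_V hy.blk hs
    ⟨ha, by rw [h2, commutatorElement_one_left]; exact one_mem _⟩)⟩
  have k3 : cm Q y ≤ ⊥ := commutator_le.2 fun a ha z hz => by
    obtain ⟨n, rfl⟩ := mem_zpowers_iff.1 hz
    exact mem_bot.2 (commutatorElement_eq_one_iff_commute.2 (((h.mem_W hy).1 (k2 ha)).2.zpow_right n))
  rw [h.cm_self hy] at k3
  obtain ⟨w, hw, h1⟩ := h.W_ne hy.blk
  exact h1 (mem_bot.1 (k3 (W_le Q hw)))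

theorem Min.lemD (h : Min D) (hy : Pt D Q y) {t : G} (ht : t ∈ 𝐍(Q)) (h2 : t * t = 1) :
    ∃ b ∈ cm (V Q t) y, ∃ s ∈ 𝐍(Q), Commute s y ∧ t = b * s ∧ b ^ 2 = s ^ 2 ∧
      ∀ a ∈ cm (V Q t) y, Commute a s := by
  obtain ⟨a, ha, s, hs, hc, rfl⟩ := h.dec hy ht
  have e1 : (s * s)⁻¹ = a * (s * a * s⁻¹) := by
    rw [inv_eq_iff_mul_eq_one, mul_eq_one_comm, ← h2]; group
  have m1 : (s * s)⁻¹ ∈ W Q := (h.mem_W hy).2
    ⟨e1 ▸ mul_mem ha (conj_mem_of_mem_normalizer hs ha), (hc.mul_left hc).inv_left⟩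
  have m2 : a ∈ V Q (a * s) := by
    rw [h.V_eq hy.blk ha hs]
    refine ⟨ha, ?_⟩
    have e : ⁅s, a⁆ = a⁻¹ * (s * s)⁻¹ * a⁻¹⁻¹ * a⁻¹ ^ 2 := by
      rw [e1, commutatorElement_def, sq]; group
    rw [e]
    exact mul_mem (conj_mem_of_mem_normalizer (norm_W Q (le_normalizer (inv_mem ha))) m1)
      (h.sq_W hy.blk (inv_mem ha))
  obtain ⟨b, hb, w, hw, -, e2⟩ := h.split hy (V_le Q _) (h.V_norm hy ht) m2
  have hs' : w * s ∈ 𝐍(Q) := mul_mem (le_normalizer (W_le Q hw)) hs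
  have hc' : Commute (w * s) y := ((h.mem_W hy).1 hw).2.mul_left hc
  have e3 : V Q (a * s) = V Q (w * s) := by rw [h.V_eq hy.blk ha hs, h.V_eq hy.blk (W_le Q hw) hs]
  have k : ∀ c ∈ cm (V Q (a * s)) y, Commute c (w * s) := fun c hc => h.V_cent hy hs' hc' (e3 ▸ hc)
  have e4 : a * s = b * (w * s) := by rw [e2, mul_assoc]
  refine ⟨b, hb, w * s, hs', hc', e4, ?_, k⟩
  have e5 : b ^ 2 * (w * s) ^ 2 = 1 := by rw [← (k b hb).mul_pow, ← e4, sq, h2]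
  have e6 := h.W_sq hy.blk (h.sq_W hy.blk (V_le Q _ (cm_le (h.V_norm hy ht) hb)))
  exact mul_left_cancel (e6.trans e5.symm)

theorem Min.lemH (h : Min D) (hy : Pt D Q y) (hX : X ≤ Q) (hn : y ∈ 𝐍(X)) {K : Subgroup G}
    (h1 : ∀ a ∈ X, a ∈ W Q → a ∈ K) (h2 : ∀ a ∈ X, ⁅a, y⁆ ∈ K) : X ≤ K := by
  have k : cm X y ≤ K := commutator_le.2 fun a ha z hz => by
    obtain ⟨n, rfl⟩ := (Submonoid.mem_powers_iff _ _).1 (mem_powers_iff_mem_zpowers.2 hz)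
    clear hz
    induction n with
    | zero => rw [pow_zero, commutatorElement_one_right]; exact one_mem _
    | succ n ih =>
      have e : ⁅a, y ^ (n + 1)⁆ = ⁅a, y ^ n⁆ * ⁅y ^ n * a * (y ^ n)⁻¹, y⁆ := by
        rw [pow_succ']
        generalize y ^ n = z
        simp only [commutatorElement_def]; group
      rw [e]
      exact mul_mem ih (h2 _ (conj_mem_of_mem_normalizer (pow_mem hn n) ha))
  intro a ha
  obtain ⟨b, hb, w, hw, hw', rfl⟩ := h.split hy hX hn ha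
  exact mul_mem (k hb) (h1 w hw' hw)

theorem Min.lemZ (h : Min D) (hy : Pt D Q y) (hX : X ≤ Q) (hn : y ∈ 𝐍(X)) {b : G} (hb : b ∈ X)
    (hc : ∀ a ∈ X, Commute a b) : b ^ 2 = 1 := by
  have hn' : zpowers y ≤ 𝐍(X) := zpowers_le.2 hn
  have n0 : zpowers y ≤ 𝐍((X ⊓ 𝐂(X) : Subgroup G)) := le_normalizer_inf hn' (le_normalizer_centralizer hn')
  have l0 : X ⊓ 𝐂(X) ≤ Q := inf_le_left.trans hX
  obtain ⟨r, hr, w, hw, -, rfl⟩ := h.split hy l0 (n0 (mem_zpowers y)) (a := b) ⟨hb, fun a ha => hc a ha⟩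
  have hrQ := l0 (cm_le (n0 (mem_zpowers y)) hr)
  have hab : IsMulCommutative (X ⊓ 𝐂(X) : Subgroup G) :=
    ⟨⟨fun a b => Subtype.ext (b.2.2 a a.2.1)⟩⟩
  have cop : (Nat.card (zpowers y)).Coprime (Nat.card (X ⊓ 𝐂(X) : Subgroup G)) := by
    obtain ⟨k, hk⟩ := (IsPGroup.iff_card).1 (hy.blk.p2.to_le l0)
    rw [hk, Nat.card_zpowers]
    exact Nat.Coprime.pow_right _ (Nat.coprime_two_right.2 (h.odd y hy.mem))
  have e : r ^ 2 = 1 := by
    rw [← mem_bot, ← H2.commutator_inf_centralizer_eq_bot hab n0 cop]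
    refine ⟨pow_mem hr 2, ?_⟩
    rw [centralizer_zpowers]
    exact mem_centralizer_singleton_iff.2 ((h.mem_W hy).1 (h.sq_W hy.blk hrQ)).2.eq
  rw [(h.W_comm hy.blk hw hrQ).symm.mul_pow, e, sq, h.W_sq hy.blk hw, mul_one]

end H45.DSC
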