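import Mathlib
import Cfsg.Agent.Lib.DSC.LV

/-! See `blueprint/DSC/README.md`. -/

set_option autoImplicit false
set_option linter.unusedSectionVars false
set_option linter.unusedVariables false

namespace H45.DSC

open Subgroup MulAction H69
open scoped commutatorElement

universe u

variable {G : Type u} [Group G] [Finite G] {D : Set G} {Q Q' X L : Subgroup G} {y y' : G}

namespace FX

/-- the group `J W₁ W₁'` -/
def T0 (Q Q' : Subgroup G) : Subgroup G := (Q ⊓ Q') ⊔ ((W Q ⊓ 𝐍(Q')) ⊔ (W Q' ⊓ 𝐍(Q)))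

theorem T0_comm (Q Q' : Subgroup G) : T0 Q Q' = T0 Q' Q := by
  rw [T0, T0, inf_comm Q Q', sup_comm (W Q ⊓ _)]

theorem m1 {x : G} (h : x ∈ Q) (h' : x ∈ Q') : x ∈ T0 Q Q' := mem_sup_left (mem_inf.2 ⟨h, h'⟩)

theorem m2 {x : G} (h : x ∈ W Q) (h' : x ∈ 𝐍(Q')) : x ∈ T0 Q Q' :=
  mem_sup_right (mem_sup_left (mem_inf.2 ⟨h, h'⟩))

theorem m3 {x : G} (h : x ∈ W Q') (h' : x ∈ 𝐍(Q)) : x ∈ T0 Q Q' :=
  mem_sup_right (mem_sup_right (mem_inf.2 ⟨h, h'⟩))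

theorem nrm {g : G} (h1 : ∀ x ∈ Q, x ∈ Q' → g * x * g⁻¹ ∈ T0 Q Q')
    (h2 : ∀ x ∈ W Q, x ∈ 𝐍(Q') → g * x * g⁻¹ ∈ T0 Q Q')
    (h3 : ∀ x ∈ W Q', x ∈ 𝐍(Q) → g * x * g⁻¹ ∈ T0 Q Q') : g ∈ 𝐍(T0 Q Q') := by
  refine mem_normalizer_of_cj_le ?_
  conv_lhs => rw [T0, cj_sup, cj_sup]
  refine sup_le ?_ (sup_le ?_ ?_) <;> intro x hx <;> obtain ⟨a, ha, rfl⟩ := mem_cj'.1 hx
  exacts [h1 a ha.1 ha.2, h2 a ha.1 ha.2, h3 a ha.1 ha.2]

theorem cfix {g x : G} (c : Commute g x) : g * x * g⁻¹ = x := by rw [c.eq, mul_inv_cancel_right]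

theorem one (h : Min D) (hQ : Blk D Q) (hQ' : Blk D Q') (ne : Q ≠ Q') {x : G} (h1 : x ∈ W Q)
    (h2 : x ∈ W Q') : x = 1 := by
  by_contra e
  exact ne (h.ti hQ hQ' h1 h2 e)

theorem key (h : Min D) (hy : Pt D Q y) (hy' : Pt D Q' y) (ne : Q ≠ Q') {v a : G} (hv : v ∈ W Q)
    (v1 : v ≠ 1) (hn : v ∈ 𝐍(Q')) (ha : a ∈ Q') :
    ∃ b ∈ Q, b ∈ Q' ∧ ∃ ω ∈ W Q', ω ∈ 𝐍(Q) ∧ ⁅v, a⁆ = b * ω := by
  have v2 := h.W_sq hy.blk hv
  have vy := ((h.mem_W hy).1 hv).2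
  have yV := h.V_norm hy' hn
  obtain ⟨b, hb, ω, hω, -, e⟩ := h.split hy' (V_le Q' v) yV (h.comm_mem_V hy'.blk hn (a := a)
    (mem_V.2 ⟨ha, by rw [v2, commutatorElement_one_left]; exact one_mem _⟩))
  have bQ' : b ∈ Q' := V_le _ _ (cm_le yV hb)
  have bv := h.V_cent hy' hn vy hb
  have bQ : b ∈ Q := by
    rw [← (h.cm_eq (h.cent_ne v1 v2) hy (mem_centralizer_singleton_iff.2 vy.symm)
      fun x hx => mem_centralizer_singleton_iff.2 (h.W_comm hy.blk hv hx).symm).1]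
    rw [← cm_cm (h.odd y hy.mem) (hy'.blk.p2.to_le (V_le Q' v)) yV] at hb
    exact commutator_mono (fun x hx => mem_centralizer_singleton_iff.2 (h.V_cent hy' hn vy hx)) le_rfl hb
  have b2 : b ^ 2 = 1 := one h hy.blk hy'.blk ne (h.sq_W hy.blk bQ) (h.sq_W hy'.blk bQ')
  have c2 : b * ω * (b * ω) = 1 := by
    rw [← pow_two, (h.W_comm hy'.blk hω bQ').symm.mul_pow, b2, pow_two, h.W_sq hy'.blk hω, mul_one]
  have c : Commute (b * ω) v := by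
    have vi : v⁻¹ = v := inv_eq_of_mul_eq_one_right v2
    have : v * ⁅v, a⁆ = ⁅v, a⁆⁻¹ * v := by
      rw [commutatorElement_inv, commutatorElement_def, commutatorElement_def, vi, ← mul_assoc, ← mul_assoc,
        ← mul_assoc, v2, one_mul, mul_assoc _ v v, v2, mul_one]
    rw [e, inv_eq_of_mul_eq_one_right c2] at this
    exact this.symm
  refine ⟨b, bQ, bQ', ω, hω, h.cent_le hy.blk hv v1 ?_, e⟩
  have := bv.inv_left.mul_left c
  rwa [inv_mul_cancel_left] at this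

theorem le (h : Min D) (hy : Pt D Q y) (hy' : Pt D Q' y) (ne : Q ≠ Q') {w : G} (hw : w ∈ W Q)
    (w1 : w ≠ 1) (hn : w ∈ 𝐍(Q')) : Q' ≤ 𝐍(T0 Q Q') := fun a ha => by
  refine nrm (fun j hj hj' => ?_) (fun v hv hv' => ?_) fun x hx hx' => ?_
  · obtain ⟨b, bQ, bQ', ω, hω, -, e⟩ := key h hy hy' ne hw w1 hn ha
    have hc : ⁅a, j⁆ ∈ W Q' := commutator_mem_commutator ha hj'
    have c1 : Commute (b * ω) j := (commutatorElement_eq_one_iff_commute.1 (one h hy.blk hy'.blk ne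
      (commutator_mem_commutator bQ hj) (commutator_mem_commutator bQ' hj'))).mul_left
        (h.W_comm hy'.blk hω hj')
    have c2 : Commute (b * ω) ⁅a, j⁆ := (h.W_comm hy'.blk hc (mul_mem bQ' (W_le _ hω))).symm
    have c3 : Commute ⁅a, j⁆ w := by
      have e1 : w * ⁅a, j⁆ * w⁻¹ = ⁅w, a⁆ * (⁅a, w * j * w⁻¹⁆ * (w * j * w⁻¹)) * ⁅w, a⁆⁻¹ *
          (w * j * w⁻¹)⁻¹ := by
        simp only [commutatorElement_def]; group
      rw [cfix (h.W_comm hy.blk hw hj), e, cfix (c2.mul_right c1), mul_inv_cancel_right] at e1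
      exact (mul_inv_eq_iff_eq_mul.1 e1).symm
    rw [show a * j * a⁻¹ = ⁅a, j⁆ * j by simp only [commutatorElement_def]; group]
    exact mul_mem (m3 hc (h.cent_le hy.blk hw w1 c3)) (m1 hj hj')
  · by_cases v1 : v = 1
    · rw [v1, mul_one, mul_inv_cancel]; exact one_mem _
    obtain ⟨b, bQ, bQ', ω, hω, hω', e⟩ := key h hy hy' ne hv v1 hv' ha
    rw [show a * v * a⁻¹ = ⁅v, a⁆⁻¹ * v by simp only [commutatorElement_def]; group, e]
    exact mul_mem (inv_mem (mul_mem (m1 bQ bQ') (m3 hω hω'))) (m2 hv hv')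
  · rw [cfix (h.W_comm hy'.blk hx ha).symm]
    exact m3 hx hx'

end FX

theorem Min.fix (h : Min D) (hy : Pt D Q y) (hy' : Pt D Q' y) {w : G} (hw : w ∈ W Q) (h1 : w ≠ 1)
    (hn : w ∈ 𝐍(Q')) : Q = Q' := by
  by_contra ne
  obtain ⟨w', hw', h1', hn'⟩ := (h.pr_symm ⟨hy.blk, hy'.blk, ne, w, hw, h1, hn⟩).ex
  have hp : IsPGroup 2 (FX.T0 Q Q') :=
    ((hy'.blk.p2.to_le (inf_le_left.trans (W_le Q'))).to_sup_of_normal_right' hy.blk.p2
      (inf_le_right (a := W Q'))).to_le (sup_le (inf_le_left.trans le_sup_right)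
        (sup_le ((inf_le_left.trans (W_le Q)).trans le_sup_right) le_sup_left))
  have hL : 𝐍(FX.T0 Q Q') ≠ ⊤ := fun e => h1 (mem_bot.1 (h.o2 _ hp e ▸ FX.m2 hw hn))
  have yL : y ∈ 𝐍(FX.T0 Q Q') := FX.nrm
    (fun x hx hx' => FX.m1 ((mem_normalizer_iff.1 hy.norm x).1 hx) ((mem_normalizer_iff.1 hy'.norm x).1 hx'))
    (fun x hx hx' => by rw [FX.cfix ((h.mem_W hy).1 hx).2.symm]; exact FX.m2 hx hx')
    fun x hx hx' => by rw [FX.cfix ((h.mem_W hy').1 hx).2.symm]; exact FX.m3 hx hx'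
  exact ne (h.eq_of_proper hL hy hy' yL yL
    (FX.T0_comm Q Q' ▸ FX.le h hy' hy (Ne.symm ne) hw' h1' hn') (FX.le h hy hy' ne hw h1 hn))

end H45.DSC
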