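import Mathlib
import Cfsg.Agent.Lib.DSC.FX

/-! See `blueprint/DSC/README.md`. -/

set_option autoImplicit false
set_option linter.unusedSectionVars false
set_option linter.unusedVariables false

namespace H45.DSC

open Subgroup MulAction H69
open scoped commutatorElement

universe u

variable {G : Type u} [Group G] [Finite G] {D : Set G} {Q Q' X L : Subgroup G} {y y' : G}

private theorem FW_nsup {A B : Subgroup G} {g : G} (h1 : g ∈ 𝐍(A)) (h2 : g ∈ 𝐍(B)) : g ∈ 𝐍(A ⊔ B) :=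
  cj_eq_self_iff.1 (by rw [cj_sup, cj_eq_of_mem_normalizer h1, cj_eq_of_mem_normalizer h2])

private theorem FW_p2 {w : G} (h : w * w = 1) : IsPGroup 2 (zpowers w) :=
  isPGroup_iff_mem.2 fun x hx => by
    obtain ⟨n, rfl⟩ := mem_zpowers_iff.1 hx
    refine ⟨1, ?_⟩
    rw [pow_one, ← zpow_natCast, ← zpow_mul, mul_comm, zpow_mul, zpow_natCast, sq, h, one_zpow]

theorem Min.pt_of_norm (h : Min D) (hy : Pt D Q y) (hy' : y' ∈ D) (hX : IsPGroup 2 X) (h1 : y ∈ 𝐍(X))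
    (h2 : y' ∈ 𝐍(X)) {w : G} (hw : w ∈ W Q) (hw1 : w ≠ 1) (hwX : w ∈ X) : y' ∈ 𝐍(Q) := by
  obtain ⟨R, hRL, hR, hyR, r, hr, e⟩ := h.toCls0.conj_in hy.mem hy' h1 h2
  obtain ⟨Q₃, p3, hK, hc⟩ := h.exists_blk hy.mem (isPGroup_sup_of_le_normalizer_right hR hX hRL)
    (FW_nsup hyR h1)
  have e3 := h.fix hy p3 hw hw1 (hK (mem_sup_right hwX))
  have hrQ : r ∈ 𝐍(Q) := le_normalizer (e3 ▸ hc (commutator_mono le_sup_left le_rfl hr))
  rw [e]
  exact mul_mem (mul_mem hrQ hy.norm) (inv_mem hrQ)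

private theorem FW_wc (h : Min D) (hQ : Blk D Q) (hQ' : Blk D Q') (hle : Q ≤ 𝐍(Q')) (hle' : Q' ≤ 𝐍(Q)) :
    Q = Q' := by
  obtain ⟨y, hy⟩ := hQ.exists_pt
  obtain ⟨y', hy'⟩ := hQ'.exists_pt
  obtain ⟨w, hw, hw1⟩ := h.W_ne hQ
  have n := h.pt_of_norm hy hy'.mem (isPGroup_sup_of_le_normalizer_right hQ.p2 hQ'.p2 hle)
    (h.norm_of_le hy le_sup_left (sup_le le_normalizer hle'))
    (h.norm_of_le hy' le_sup_right (sup_le hle le_normalizer)) hw hw1 (mem_sup_left (W_le Q hw))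
  exact h.fix ⟨hQ, hy'.mem, n⟩ hy' hw hw1 (hle (W_le Q hw))

theorem Min.wc (h : Min D) (hQ : Blk D Q) (hQ' : Blk D Q') (hle : Q ≤ 𝐍(Q')) : Q = Q' := by
  by_cases hX : Q ⊔ Q' ≤ 𝐍(Q)
  · exact FW_wc h hQ hQ' hle (le_sup_right.trans hX)
  have hp := isPGroup_sup_of_le_normalizer_right hQ.p2 hQ'.p2 hle
  obtain ⟨g, hg, hg'⟩ := SetLike.exists_of_lt (lt_inf_normalizer_of_lt hp
    (inf_lt_left.2 hX : (Q ⊔ Q') ⊓ 𝐍(Q) < Q ⊔ Q'))
  have hY : Q ≤ (Q ⊔ Q') ⊓ 𝐍(Q) := le_inf le_sup_left le_normalizer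
  have eY := cj_eq_of_mem_normalizer hg.2
  have e := FW_wc h hQ (h.blk_cj hQ g)
    (by rw [← cj_normalizer]; exact hY.trans (eY.ge.trans (cj_mono g inf_le_right)))
    ((cj_mono g hY).trans (eY.le.trans inf_le_right))
  exact absurd ⟨hg.1, cj_eq_self_iff.1 e.symm⟩ hg'

theorem Min.exists_pr (h : Min D) : ∃ Q Q', Pr D Q Q' := by
  obtain ⟨y₀, hy₀⟩ := h.ne
  obtain ⟨Q, hQ, -, -⟩ := h.exists_blk (X := ⊥) hy₀ IsPGroup.of_bot (cj_eq_self_iff.1 (cj_bot _))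
  obtain ⟨w, hw, hw1⟩ := h.W_ne hQ.blk
  have w2 := h.W_sq hQ.blk hw
  obtain ⟨y, hy, hyQ⟩ := h.exists_out hQ.blk
  have m1 : y ∈ gn y (w * y * w⁻¹) := mem_sup_left (mem_zpowers _)
  have m2 : w * y * w⁻¹ ∈ gn y (w * y * w⁻¹) := mem_sup_right (mem_zpowers _)
  obtain ⟨R, hRF, hR, hyR, r, hr, e⟩ := h.toCls0.conj_in hy (h.conj y hy w) m1 m2
  have hrR : r ∈ R := cm_le hyR hr
  have hF : gn y (w * y * w⁻¹) ≤ R ⊔ zpowers y := by
    refine sup_le le_sup_right ((zpowers_le).2 ?_)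
    rw [e]
    exact mul_mem (mul_mem (mem_sup_left hrR) (mem_sup_right (mem_zpowers _))) (inv_mem (mem_sup_left hrR))
  have h0 : cm (gn y (w * y * w⁻¹)) y ≤ R := (commutator_mono hF le_rfl).trans
    (commutator_sup_le_left le_normalizer ((zpowers_le).2 hyR) (cm_le hyR) (by
      rw [commutator_eq_bot_of_le_centralizer (le_centralizer _)]; exact bot_le))
  have wF : gn y (w * y * w⁻¹) ^ᶜ w = gn y (w * y * w⁻¹) := by
    rw [cj_sup, cj_zpowers, cj_zpowers, sup_comm,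
      show w * (w * y * w⁻¹) * w⁻¹ = w * w * y * (w * w)⁻¹ by group, w2, one_mul, inv_one, mul_one]
  have wN : w ∈ 𝐍(cm (gn y (w * y * w⁻¹)) y) := cj_eq_self_iff.1 (by
    have e1 := cj_eq_of_mem_normalizer (le_norm_cm' _ y (hRF hrR))
    rw [cj_cm, cj_eq_of_mem (hRF hrR), ← e] at e1
    rw [cj_cm, wF, e1])
  have yN : y ∈ 𝐍(cm (gn y (w * y * w⁻¹)) y ⊔ zpowers w) := mem_normalizer_of_cj_le (by
    rw [cj_sup, cj_eq_of_mem_normalizer (le_norm_cm' _ y m1), cj_zpowers]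
    refine sup_le le_sup_left ((zpowers_le).2 ?_)
    have e2 : y * w * y⁻¹ = ⁅r, y⁆⁻¹ * w := by
      rw [commutatorElement_def, ← e]; group
    rw [e2]
    exact mul_mem (mem_sup_left (inv_mem (commutator_mem_commutator (hRF hrR) (mem_zpowers _))))
      (mem_sup_right (mem_zpowers _)))
  obtain ⟨Q', hQ', hK, -⟩ := h.exists_blk hy
    (isPGroup_sup_of_le_normalizer_left (hR.to_le h0) (FW_p2 w2) ((zpowers_le).2 wN)) yN
  exact ⟨Q, Q', hQ.blk, hQ'.blk, fun e => hyQ (e ▸ hQ'.norm), w, hw, hw1, hK (mem_sup_right (mem_zpowers _))⟩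

theorem Min.cm_cent_le (h : Min D) (hy : Pt D Q y) {s : G} (h1 : s ≠ 1) (h2 : s * s = 1)
    (hs : s ∈ 𝐍(Q)) (hc : Commute s y) : cm (centralizer {s}) y ≤ Q := by
  have hL := h.cent_ne h1 h2
  have hyL : y ∈ centralizer ({s} : Set G) := mem_centralizer_singleton_iff.2 hc.eq.symm
  obtain ⟨w, hw, hw1, hws⟩ := h.exists_W_comm hy.blk hs h2
  have hwL : w ∈ centralizer ({s} : Set G) := mem_centralizer_singleton_iff.2 hws.eq
  have hwy := ((h.mem_W hy).1 hw).2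
  obtain ⟨Q₃, p3, hK, hle⟩ := h.exists_blk hy.mem
    (isPGroup_sup_of_le_normalizer_left (h.loc _ hL y hy.mem hyL) (FW_p2 (h.W_sq hy.blk hw))
      ((zpowers_le).2 (le_norm_cm' _ y hwL)))
    (FW_nsup (le_norm_cm' _ y hyL) (cj_eq_self_iff.1 (by
      rw [cj_zpowers, ← hwy.eq, mul_inv_cancel_right])))
  rw [h.fix hy p3 hw hw1 (hK (mem_sup_right (mem_zpowers _))), ← h.cm_loc hL hy.mem hyL]
  exact (commutator_mono le_sup_left le_rfl).trans hle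

end H45.DSC
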