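import Mathlib
import Cfsg.Agent.Lib.DSC.Defs

/-! See `blueprint/DSC/README.md`. -/

set_option autoImplicit false
set_option linter.unusedSectionVars false
set_option linter.unusedVariables false

namespace H45.DSC

open Subgroup MulAction H69
open scoped commutatorElement

universe u

variable {G Ω : Type*} [Group G] [Finite G] [MulAction G Ω] [Finite Ω] {α β : Ω}
  {N T H X : Subgroup G}

theorem Sc.HM_coatom (h : Sc G α β) : IsCoatom (stabilizer G α) := by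
  obtain ⟨g, -, hg⟩ := h.mv
  have : Nontrivial Ω := ⟨_, _, hg⟩
  have := h.prim
  exact IsPreprimitive.isCoatom_stabilizer_of_isPreprimitive G α

theorem Sc.HM_cj (h : Sc G α β) : ∃ g : G, g • α = β ∧ stabilizer G β = stabilizer G α ^ᶜ g := by
  obtain ⟨g, rfl⟩ := h.prim.toIsPretransitive.exists_smul_eq α β
  refine ⟨g, rfl, ?_⟩
  ext x
  rw [mem_cj, mem_stabilizer_iff, mem_stabilizer_iff, mul_smul, mul_smul, inv_smul_eq_iff]

theorem Sc.eq_bot (h : Sc G α β) {Y : Subgroup G} (hY : Y ≤ stabilizer G α)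
    (h1 : stabilizer G α ≤ 𝐍(Y)) (h2 : stabilizer G β ≤ 𝐍(Y)) : Y = ⊥ := by
  have := h.faith
  have ht : 𝐍(Y) = ⊤ := by
    rcases h1.eq_or_lt with e | e
    · obtain ⟨g, -, hg⟩ := h.HM_cj
      obtain ⟨k, k1, k2⟩ := h.mv
      have e2 : stabilizer G β = stabilizer G α :=
        eq_of_le_of_card_ge (e ▸ h2) (by rw [hg, card_cj])
      exact absurd (e2.ge k1 : k • β = β) k2
    · exact h.HM_coatom.2 _ e
  by_contra c
  exact H74.ONS.not_le_stabilizer h.prim.toIsPretransitive (normalizer_eq_top_iff.1 ht) c α hY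

theorem Sc.moves (h : Sc G α β) (hN : N.Normal) (hne : N ⊓ stabilizer G α ≠ ⊥) :
    ¬ N ⊓ stabilizer G α ≤ stabilizer G β := by
  intro c
  obtain ⟨g, -, hg⟩ := h.HM_cj
  have k : ∀ γ : Ω, stabilizer G γ ≤ 𝐍((N ⊓ stabilizer G γ : Subgroup G)) := fun γ =>
    le_normalizer_inf (le_top.trans (normal_iff_top_le_normalizer.1 hN)) le_normalizer
  have e : N ⊓ stabilizer G α = N ⊓ stabilizer G β := by
    refine eq_of_le_of_card_ge (le_inf inf_le_left c) ?_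
    rw [hg, ← card_cj (N ⊓ stabilizer G α) g, cj_inf, cj_eq_of_normal N]
  exact hne (h.eq_bot inf_le_right (k α) (e ▸ k β))

theorem Sc.tr (h : Sc G α β) (hX : X ≤ stabilizer G α) (hn : stabilizer G α ≤ 𝐍(X))
    (hm : ¬ X ≤ stabilizer G β) {g : G} (hg : g • α = α) : ∃ d ∈ X, d • β = g • β := by
  obtain ⟨x, hx, hx'⟩ := SetLike.not_le_iff_exists.1 hm
  by_cases e : g • β = β
  · exact ⟨1, one_mem _, by rw [e, one_smul]⟩
  obtain ⟨k, k1, k2, k3⟩ := h.two x g (hX hx) hg hx' e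
  refine ⟨k * x * k⁻¹, conj_mem_of_mem_normalizer (hn k1) hx, ?_⟩
  rw [mul_smul, mul_smul, inv_smul_eq_iff.2 k2.symm, k3]

theorem Sc.ham (h : Sc G α β) {E : Subgroup G} (hX : X ≤ stabilizer G α) (hE : E ≤ stabilizer G α)
    (hn : ∀ g : G, g • α = α → E ≤ 𝐍(X ^ᶜ g)) (ht : ∀ g : G, g • α = α → ∃ d ∈ E, d • β = g • β)
    (hm : ∃ g : G, g • α = α ∧ ¬ X ^ᶜ g ≤ stabilizer G β)
    (hp : ∀ g₂ g₃ : G, g₂ • α = α → g₃ • α = α → X ^ᶜ g₂ ≠ X → ∀ x₁ ∈ X, ∀ x₂ ∈ X ^ᶜ g₂,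
      ∀ x₃ ∈ X ^ᶜ g₃, (x₃⁻¹ * x₁ * x₂) • β = β → x₁ • β = β ∨ x₂ • β = β) :
    stabilizer G α ≤ 𝐍(X) ∧ ¬ X ≤ stabilizer G β := by
  have key : ∀ g : G, g • α = α → ∃ k : G, k • β = β ∧ X ^ᶜ g = X ^ᶜ k := fun g hg => by
    obtain ⟨d, hd, e⟩ := ht g hg
    refine ⟨d⁻¹ * g, by rw [mul_smul, inv_smul_eq_iff, e], ?_⟩
    rw [← cj_cj, cj_eq_of_mem_normalizer (inv_mem (hn g hg hd))]
  have iff : ∀ g : G, g • α = α → (X ^ᶜ g ≤ stabilizer G β ↔ X ≤ stabilizer G β) := fun g hg => by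
    obtain ⟨k, hk, e⟩ := key g hg
    rw [e, cj_le_iff, cj_eq_of_mem (inv_mem (show k ∈ stabilizer G β from hk))]
  have h0 : ¬ X ≤ stabilizer G β := let ⟨g, hg, e⟩ := hm; fun c => e ((iff g hg).2 c)
  refine ⟨fun g hg => cj_eq_self_iff.1 (by_contra fun c => ?_), h0⟩
  obtain ⟨x₁, h1, h1'⟩ := SetLike.not_le_iff_exists.1 h0
  obtain ⟨x₂, h2, h2'⟩ := SetLike.not_le_iff_exists.1 (mt (iff g hg).1 h0)
  have a2 : x₂ • α = α := cj_le_of_mem hX hg h2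
  by_cases e : (x₁ * x₂) • β = β
  · exact (hp g 1 hg (one_smul _ _) c x₁ h1 x₂ h2 1 (one_mem _) (by simpa using e)).elim h1' h2'
  obtain ⟨k, k1, k2, k3⟩ := h.two x₁ (x₁ * x₂) (hX h1) (by rw [mul_smul, a2]; exact hX h1) h1' e
  refine (hp g k hg k1 c x₁ h1 x₂ h2 _ (cj_mem k h1) ?_).elim h1' h2'
  rw [mul_assoc, mul_smul, inv_smul_eq_iff, ← k3, mul_smul, mul_smul, inv_smul_eq_iff.2 k2.symm]

theorem sc_of [FaithfulSMul G Ω] (hprim : IsPreprimitive G Ω)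
    (h2 : 2 ≤ Nat.card (orbit (stabilizer G α) β))
    (h2t : IsMultiplyPretransitive (stabilizer G α) (orbit (stabilizer G α) β) 2) : Sc G α β := by
  refine ⟨inferInstance, hprim, ?_, fun g g' a a' b b' => ?_, h2t⟩
  · have : Nontrivial (orbit (stabilizer G α) β) := Finite.one_lt_card_iff_nontrivial.1 h2
    obtain ⟨⟨_, g, rfl⟩, hg⟩ := exists_ne (⟨β, mem_orbit_self β⟩ : orbit (stabilizer G α) β)
    exact ⟨g, g.2, fun e => hg (Subtype.ext e)⟩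
  · rw [is_two_pretransitive_iff] at h2t
    obtain ⟨k, k1, k2⟩ := @h2t ⟨β, mem_orbit_self β⟩ ⟨_, mem_orbit β (⟨g, a⟩ : stabilizer G α)⟩
      ⟨β, mem_orbit_self β⟩ ⟨_, mem_orbit β (⟨g', a'⟩ : stabilizer G α)⟩
      (fun e => b (congrArg Subtype.val e).symm) fun e => b' (congrArg Subtype.val e).symm
    exact ⟨k, k.2, congrArg Subtype.val k1, congrArg Subtype.val k2⟩

end H45.DSC
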