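import Mathlib
import Cfsg.Agent.Lib.DSC.HM

/-! See `blueprint/DSC/README.md`. -/

set_option autoImplicit false
set_option linter.unusedSectionVars false
set_option linter.unusedVariables false

namespace H45.DSC

open Subgroup MulAction H69
open scoped commutatorElement

universe u

variable {G Ω : Type*} [Group G] [Finite G] [MulAction G Ω] [Finite Ω] {α β : Ω}
  {N T H X : Subgroup G}

private theorem hs_comp (hF : H74.ONS.Fac N T) {t c m : G} (ht : t ∈ T) (hc : c ∈ 𝐂(T)) (hm : m ∈ N)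
    (e : t * c * m = m * (t * c)) : t * m = m * t := by
  have := hF.comp_unique (hF.conj' hm ht) ht (hF.conj_mem_centralizer hm hc) hc (by
    calc m⁻¹ * t * m * (m⁻¹ * c * m) = m⁻¹ * (t * c * m) := by group
      _ = t * c := by rw [e]; group)
  calc t * m = m * (m⁻¹ * t * m) := by group
    _ = _ := by rw [this]

private theorem hs_hom (h : Sc G α β) (hF : H74.ONS.Fac N T) (hC : 𝐂(N) ≠ ⊥) {m : G} (hm : m ∈ N)
    (e : m • α = β) : ∃ φ : N →* G, Function.Injective φ ∧ (∀ n, φ n • α = α) ∧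
      (∀ g : G, g • α = α → ∀ n : N, φ ⟨g * n * g⁻¹, hF.normal.conj_mem _ n.2 g⟩ = g * φ n * g⁻¹) ∧
      ∀ n : N, φ n • β = β ↔ n * m = m * n := by
  have := h.faith
  have := hF.normal
  have tC := H75.normal_isPretransitive' h.prim (𝐂(N)) inferInstance hC
  have tN := H75.normal_isPretransitive' h.prim N hF.normal hF.N_ne_bot
  have ex : ∀ n : G, ∃ c ∈ 𝐂(N), (n * c) • α = α := fun n => by
    obtain ⟨c, hc⟩ := tC.exists_smul_eq α (n⁻¹ • α)
    exact ⟨c, c.2, by rw [mul_smul, show (c : G) • α = n⁻¹ • α from hc, smul_inv_smul]⟩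
  choose c hc ec using ex
  have un : ∀ n d : G, d ∈ 𝐂(N) → (n * d) • α = α → c n = d := fun n d hd ed => by
    refine inv_mul_eq_one.1 (H74.ONS.eq_one_of_centralizer_of_fix tN (mul_mem (inv_mem (hc n)) hd) (a := α) ?_)
    rw [mul_smul, inv_smul_eq_iff]
    exact MulAction.injective n (by simp only [← mul_smul, ec, ed])
  have mul : ∀ a b : N, ((a * b : N) : G) * c (a * b : N) = a * c a * (b * c b) := fun a b => by
    have e1 : (a : G) * c a * (b * c b) = (a * b : N) * (c a * c b) := by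
      calc _ = (a : G) * (c a * b) * c b := by group
        _ = _ := by rw [← hc a b b.2, coe_mul]; group
    rw [un (a * b : N) (c a * c b) (mul_mem (hc _) (hc _)) (by rw [← e1, mul_smul, ec, ec]), e1]
  refine ⟨MonoidHom.mk' (fun n => n * c n) mul, (injective_iff_map_eq_one _).2 fun n hn => ?_,
    fun n => ec n, fun g hg n => ?_, fun n => ?_⟩
  · refine Subtype.ext (hF.eq_one_of_centralizer_N n.2 ?_)
    rw [show (n : G) = (c n)⁻¹ from eq_inv_of_mul_eq_one_left hn]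
    exact inv_mem (hc _)
  · change g * n * g⁻¹ * c (g * n * g⁻¹) = g * (n * c n) * g⁻¹
    rw [un (g * n * g⁻¹) (g * c n * g⁻¹) (Normal.conj_mem inferInstance _ (hc n) g) (by
      rw [conj_mul, mul_smul, mul_smul, inv_smul_eq_iff.2 hg.symm, ec, hg]), conj_mul]
  · change ((n : G) * c n) • β = β ↔ _
    have e1 : ((n : G) * c n) • β = ((n : G) * m * (n : G)⁻¹) • α := by
      calc _ = ((n : G) * (c n * m)) • α := by rw [← e, ← mul_smul, mul_assoc]
        _ = ((n : G) * m * (n : G)⁻¹ * (n * c n)) • α := by rw [← hc n m hm]; congr 1; group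
        _ = _ := by rw [mul_smul, ec]
    rw [e1]
    refine ⟨fun e2 => ?_, fun e2 => by rw [e2, mul_inv_cancel_right, e]⟩
    have := H74.ONS.semiregular_of_centralizer_ne_bot h.prim hF.normal hC
      (mul_mem (inv_mem hm) (mul_mem (mul_mem n.2 hm) (inv_mem n.2))) (a := α)
      (by rw [mul_smul, e2, ← e, inv_smul_smul])
    calc (n : G) * m = m * (m⁻¹ * (n * m * (n : G)⁻¹)) * n := by group
      _ = _ := by rw [this, mul_one]

theorem Sc.hs (h : Sc G α β) (hF : H74.ONS.Fac N T) (hC : 𝐂(N) ≠ ⊥) : Dg G α β := by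
  have := h.faith
  obtain ⟨⟨m, hm⟩, e⟩ :=
    (H75.normal_isPretransitive' h.prim N hF.normal hF.N_ne_bot).exists_smul_eq α β
  replace e : m • α = β := e
  have m1 : m ≠ 1 := by
    rintro rfl
    obtain ⟨k, k1, k2⟩ := h.mv
    rw [one_smul] at e
    exact k2 (e ▸ k1)
  obtain ⟨φ, inj, fx, cj, fb⟩ := hs_hom h hF hC hm e
  let St : Subgroup G → Subgroup G := fun S => (S.subgroupOf N).map φ
  have mem : ∀ {S : Subgroup G} {x : G}, x ∈ St S ↔ ∃ n : N, (n : G) ∈ S ∧ φ n = x := Iff.rfl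
  have le : ∀ S, St S ≤ stabilizer G α := by
    rintro S _ ⟨n, -, rfl⟩
    exact fx n
  have hcj : ∀ g : G, g • α = α → ∀ S, St S ^ᶜ g = St (H74.ONS.cj g S) := fun g hg S => by
    ext x
    rw [mem_cj', mem]
    constructor
    · rintro ⟨_, ⟨n, hn, rfl⟩, rfl⟩
      exact ⟨_, H74.ONS.conj_mem_cj g hn, cj g hg n⟩
    · rintro ⟨n, hn, rfl⟩
      have := cj g⁻¹ (inv_smul_eq_iff.2 hg.symm) n
      refine ⟨_, ⟨_, ?_, this⟩, by group⟩
      simpa [mem_subgroupOf] using H74.ONS.mem_cj.1 hn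
  have mv : ∀ S : Subgroup G, S ≤ N → St S ≤ stabilizer G β → S ≤ centralizer {m} := fun S hS hl n hn =>
    mem_centralizer_singleton_iff.2 ((fb ⟨n, hS hn⟩).1 (hl ⟨⟨n, hS hn⟩, hn, rfl⟩))
  have nc : ¬ N ≤ centralizer {m} := fun hl =>
    m1 (hF.eq_one_of_centralizer_N hm fun n hn => mem_centralizer_singleton_iff.1 (hl hn))
  have sup : N ⊔ stabilizer G α = ⊤ := H74.ONS.sup_eq_top_of_isCoatom h.HM_coatom
    (H74.ONS.not_le_stabilizer h.prim.toIsPretransitive hF.normal hF.N_ne_bot α)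
  obtain ⟨h1, h2⟩ := h.ham (X := St T) (E := St N) (le T) (le N)
    (fun g hg => by
      rw [hcj g hg]
      rintro _ ⟨d, -, rfl⟩
      refine mem_normalizer_fintype ?_
      rintro _ ⟨n, hn, rfl⟩
      exact ⟨d * n * d⁻¹, (hF.cj g).conj d d.2 n hn, by rw [map_mul, map_mul, map_inv]⟩)
    (fun g hg => h.tr (le N) (fun k hk => by
      refine mem_normalizer_fintype ?_
      rintro _ ⟨n, -, rfl⟩
      exact ⟨_, hF.normal.conj_mem _ n.2 k, cj k hk n⟩) (fun hl => nc (mv N le_rfl hl)) hg)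
    (by
      by_contra hc
      push Not at hc
      refine nc (hF.le_of_forall_cj fun g => ?_)
      obtain ⟨k, hk, ek⟩ := hF.exists_cj_eq_of_sup (hF.cj g) sup
      rw [← ek]
      exact mv _ (hF.cj k).le (hcj k hk T ▸ hc k hk))
    (fun g₂ g₃ e₂ e₃ ne x₁ hx₁ x₂ hx₂ x₃ hx₃ ex => by
      rw [hcj g₂ e₂] at ne hx₂
      rw [hcj g₃ e₃] at hx₃
      obtain ⟨n₁, hn₁, rfl⟩ := mem.1 hx₁
      obtain ⟨n₂, hn₂, rfl⟩ := mem.1 hx₂
      obtain ⟨n₃, hn₃, rfl⟩ := mem.1 hx₃
      have ne' : T ≠ H74.ONS.cj g₂ T := fun e => ne (by rw [← e])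
      rw [← map_inv, ← map_mul, ← map_mul, fb] at ex
      simp only [coe_mul, coe_inv] at ex
      rw [fb, fb]
      by_cases e3 : T = H74.ONS.cj g₃ T
      · rw [← e3] at hn₃
        have hc := (hF.cj g₂).le_centralizer hF ne'.symm (mul_mem (inv_mem hn₃) hn₁)
        exact Or.inr (hs_comp (hF.cj g₂) hn₂ hc hm (by rwa [hc _ hn₂]))
      · have hc := hF.le_centralizer (hF.cj g₃) e3 (inv_mem hn₃)
        exact Or.inl (hs_comp hF hn₁ (mul_mem hc (hF.le_centralizer (hF.cj g₂) ne' hn₂)) hm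
          (by rwa [← mul_assoc (n₁ : G), hc _ hn₁])))
  have eq : T ≃* St T := (subgroupOfEquivOfLe hF.le).symm.trans (equivMapOfInjective _ φ inj)
  have := hF.isSimpleGroup
  obtain ⟨t, ht, c, -, hc, em⟩ := hF.decomp hm
  refine ⟨St T, le T, h1, eq.symm.isSimpleGroup, fun hc => hF.not_comm
    ⟨⟨fun a b => eq.injective (by rw [map_mul, map_mul]; exact hc.is_comm.comm _ _)⟩⟩, h2,
    φ ⟨t, hF.le ht⟩, ⟨_, ht, rfl⟩, fun e1 => h2 ?_, ?_⟩
  · have t1 : t = 1 := congrArg Subtype.val ((map_eq_one_iff φ inj).1 e1)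
    rintro _ ⟨n, hn, rfl⟩
    rw [t1, one_mul] at em
    exact (fb n).2 (em ▸ hc n hn)
  · rintro _ ⟨n, hn, rfl⟩ en
    rw [fb, em, ← mul_assoc, mul_assoc t, ← hc n hn, ← mul_assoc, mul_left_inj] at en
    exact Commute.map (x := n) (y := ⟨t, hF.le ht⟩) (Subtype.ext en) φ

end H45.DSC
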