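import Mathlib
import Cfsg.Agent.Lib.DSC.FW

/-! See `blueprint/DSC/README.md`. -/

set_option autoImplicit false
set_option linter.unusedSectionVars false
set_option linter.unusedVariables false

namespace H45.DSC

open Subgroup MulAction H69
open scoped commutatorElement

universe u

variable {G : Type u} [Group G] [Finite G] {D : Set G} {Q Q' X L : Subgroup G} {y y' : G}

theorem Min.s2_le (h : Min D) (hy : Pt D Q y) {s : G} (hc : Commute s y) (hs : s ∈ 𝐍(Q)) :
    cm (V Q s) y ≤ cm (centralizer {s}) y := by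
  rw [← cm_cm (h.odd y hy.mem) (hy.blk.p2.to_le (V_le Q s)) (h.V_norm hy hs)]
  exact commutator_mono (fun b hb => mem_centralizer_singleton_iff.2 (h.V_cent hy hs hc hb)) le_rfl

theorem Min.s2_cent (h : Min D) (hy : Pt D Q y) (hy' : Pt D Q' y) {s : G} (h1 : s ≠ 1) (h2 : s * s = 1)
    (hc : Commute s y) (hs : s ∈ 𝐍(Q)) (hs' : s ∈ 𝐍(Q')) (ne : Q ≠ Q') :
    Q ≤ 𝐂(cm (centralizer {s}) y) := by
  intro a ha j hj
  have yC : y ∈ centralizer ({s} : Set G) := mem_centralizer_singleton_iff.2 hc.symm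
  have l1 := h.cm_cent_le hy h1 h2 hs hc
  have l2 := h.cm_cent_le hy' h1 h2 hs' hc
  have l3 : cm (centralizer {s}) y ≤ centralizer {s} := cm_le (le_normalizer yC)
  obtain ⟨c, hc0, ω, hω, -, e⟩ := h.split hy (V_le Q s) (h.V_norm hy hs)
    (h.comm_mem_V hy.blk hs (a := a) ⟨ha, by rw [h2, commutatorElement_one_left]; exact one_mem _⟩)
  have hc1 := h.s2_le hy hc hs hc0
  have cs : Commute c s := mem_centralizer_singleton_iff.1 (l3 hc1)
  have cc : c * c = 1 := by_contra fun e => ne (h.ti hy.blk hy'.blk (h.sq_W hy.blk (l1 hc1))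
    (h.sq_W hy'.blk (l2 hc1)) (by rwa [pow_two]))
  have ww := h.W_sq hy.blk hω
  have wc := h.W_comm hy.blk hω (l1 hc1)
  have e1 : a * s * a⁻¹ = s * (c * ω) := by
    rw [← e, commutatorElement_def, inv_eq_of_mul_eq_one_right h2]
    simp only [← mul_assoc, h2, one_mul]
  have t2 : s * ω * (s * ω) = 1 := by
    calc _ = s * ω * (s * (c * c) * ω) := by rw [cc, mul_one]
      _ = s * (ω * c) * (s * (c * ω)) := by simp only [← mul_assoc]; rw [mul_assoc _ s c, ← cs.eq, ← mul_assoc]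
      _ = a * (s * s) * a⁻¹ := by rw [wc.eq, ← e1]; group
      _ = 1 := by rw [h2]; group
  have t1 : s * ω ≠ 1 := fun e => ne (h.fix hy hy' (eq_inv_of_mul_eq_one_left e ▸ inv_mem hω) h1 hs')
  have ty : Commute (s * ω) y := hc.mul_left ((h.mem_W hy).1 hω).2
  have e2 : a * (s * ω) * a⁻¹ = s * c := by
    calc _ = a * s * a⁻¹ * (a * ω * a⁻¹) := by group
      _ = _ := by rw [e1, ← (h.W_comm hy.blk hω ha).eq, mul_inv_cancel_right, mul_assoc, mul_assoc, ww, mul_one]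
  have l4 : cm (centralizer {s}) y ≤ cm (centralizer {s * ω}) y := by
    rw [← h.cm_loc (h.cent_ne h1 h2) hy.mem yC]
    exact commutator_mono (fun b hb => mem_centralizer_singleton_iff.2
      (Commute.mul_right (mem_centralizer_singleton_iff.1 (l3 hb)) (h.W_comm hy.blk hω (l1 hb)).symm)) le_rfl
  have l5 := h.cm_cent_le hy t1 t2 (mul_mem hs (le_normalizer (W_le Q hω))) ty
  obtain ⟨w, hw, w1, ws⟩ := h.exists_W_comm hy'.blk hs' h2
  have k : a⁻¹ * w * a ∈ centralizer ({s * ω} : Set G) := mem_centralizer_singleton_iff.2 (by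
    calc _ = a⁻¹ * (w * (a * (s * ω) * a⁻¹)) * a := by group
      _ = a⁻¹ * (a * (s * ω) * a⁻¹ * w) * a := by rw [e2, (ws.mul_right (h.W_comm hy'.blk hw (l2 hc1))).eq]
      _ = _ := by group)
  have k1 := l5 ((mem_normalizer_iff.1 (le_norm_cm (mem_centralizer_singleton_iff.2 ty.symm) k) j).1 (l4 hj))
  have k2 : w * ⁅a, j⁆ * w⁻¹ ∈ Q := by
    have : w * ⁅a, j⁆ * w⁻¹ = a * (a⁻¹ * w * a * j * (a⁻¹ * w * a)⁻¹) * a⁻¹ * j⁻¹ := by
      calc _ = w * a * j * a⁻¹ * (w * j)⁻¹ := by rw [commutatorElement_def]; group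
        _ = _ := by rw [(h.W_comm hy'.blk hw (l2 hj)).eq]; group
    exact this ▸ mul_mem (mul_mem (mul_mem ha k1) (inv_mem ha)) (inv_mem (l1 hj))
  refine (commutatorElement_eq_one_iff_mul_comm.1 (by_contra fun v1 => ?_)).symm
  have p := h.pt_cj hy w
  rw [((h.mem_W hy').1 hw).2.eq, mul_inv_cancel_right] at p
  exact ne (h.fix hy' hy hw w1 (cj_eq_self_iff.1 (h.fix p hy
    (cj_W Q w ▸ cj_mem w (commutator_mem_commutator ha (l1 hj))) (mt conj_eq_one_iff.1 v1) (le_normalizer k2)))).symm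

theorem Min.s2 (h : Min D) (hy : Pt D Q y) (hy' : Pt D Q' y) {s : G} (h1 : s ≠ 1) (h2 : s * s = 1)
    (hc : Commute s y) (hs : s ∈ 𝐍(Q)) (hs' : s ∈ 𝐍(Q')) : Q = Q' := by
  by_contra ne
  have yN := le_norm_cm (y := y) (mem_centralizer_singleton_iff.2 hc.symm) (mem_centralizer_singleton_iff.2 hc.symm)
  refine ne (h.eq_of_proper (fun e => h.V_ne hy hs h2 (le_bot_iff.1 ((h.s2_le hy hc hs).trans (h.o2 _
    (hy.blk.p2.to_le (h.cm_cent_le hy h1 h2 hs hc)) e).le))) hy hy' yN yN ?_ ?_)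
  · exact (h.s2_cent hy hy' h1 h2 hc hs hs' ne).trans (centralizer_le_normalizer _)
  · exact (h.s2_cent hy' hy h1 h2 hc hs' hs (Ne.symm ne)).trans (centralizer_le_normalizer _)

end H45.DSC
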