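import Mathlib
import Cfsg.Agent.Lib.DSC.S2
import Cfsg.Agent.Lib.Invol.Dihedral

/-! See `blueprint/DSC/README.md`. -/

set_option autoImplicit false
set_option linter.unusedSectionVars false
set_option linter.unusedVariables false

namespace H45.DSC

open Subgroup MulAction H69
open scoped commutatorElement

universe u

variable {G : Type u} [Group G] [Finite G] {D : Set G} {Q Q' X L : Subgroup G} {y y' : G}

theorem Min.om (h : Min D) (hy : Pt D Q y) {s : G} (h2 : s * s = 1) (hc : Commute s y)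
    (hs : s ∈ 𝐍(Q)) : s ∈ W Q := by
  by_cases h1 : s = 1
  · rw [h1]; exact one_mem _
  obtain ⟨y₁, hy₁, hn⟩ := h.exists_out hy.blk
  obtain ⟨R, -, hR, yR, r, hr, e⟩ := h.toCls0.conj_in (L := ⊤) hy.mem hy₁ trivial trivial
  obtain ⟨Q₁, hp, -, hle⟩ := h.exists_blk hy.mem hR yR
  have ne : Q ≠ Q₁ := by
    rintro rfl
    have := le_normalizer (hle hr)
    exact hn (e ▸ mul_mem (mul_mem this hy.norm) (inv_mem this))
  obtain ⟨w, hw, w1⟩ := h.W_ne hp.blk
  have w2 := h.W_sq hp.blk hw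
  have wy : Commute w y := ((h.mem_W hp).1 hw).2
  have fx : ∀ {g : G}, Commute g y → g * y * g⁻¹ = y := fun c => by rw [c.eq, mul_inv_cancel_right]
  rcases Nat.even_or_odd (orderOf (w * s)) with he | ho
  · exfalso
    obtain ⟨c1, c2⟩ := H9.pow_half_commute w2 h2 he
    have o2 := H9.orderOf_pow_half he
    have ty : Commute ((w * s) ^ (orderOf (w * s) / 2)) y := (wy.mul_left hc).pow_left _
    generalize (w * s) ^ (orderOf (w * s) / 2) = t at c1 c2 o2 ty
    have p2 := h.pt_cj hy t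
    rw [fx ty] at p2
    have tQ : t ∈ 𝐍(Q) := by
      refine cj_eq_self_iff.1 (h.s2 hy p2 h1 h2 hc hs ?_).symm
      rw [← cj_normalizer]
      have := cj_mem t hs
      rwa [c2.eq, mul_inv_cancel_right] at this
    exact ne (h.s2 hy hp (H9.ne_one_of_orderOf_two o2) (H9.mul_self_of_orderOf_two o2) ty tQ
      (h.cent_le hp.blk hw w1 c1))
  · obtain ⟨m, hm⟩ := H9.exists_pow_conj_of_odd w2 h2 ho
    have gy : Commute ((w * s) ^ m) y := (wy.mul_left hc).pow_left _
    generalize (w * s) ^ m = g at hm gy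
    have p2 := h.pt_cj hp g
    rw [fx gy] at p2
    have sW : s ∈ W (Q₁ ^ᶜ g) := by
      rw [← cj_W, ← hm]; exact cj_mem g hw
    rwa [h.fix p2 hy sW h1 hs] at sW

theorem Min.mem_of_small (h : Min D) (hy : Pt D Q y) {b s : G} (hb : b ∈ Q) (hs : s ∈ 𝐍(Q))
    (hc : Commute s y) (he : b ^ 2 = s ^ 2) (h1 : b ^ 2 = 1) : b * s ∈ Q :=
  mul_mem hb (W_le Q (h.om hy (by rw [← pow_two, ← he, h1]) hc hs))

end H45.DSC
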