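import Mathlib
import Cfsg.Agent.Lib.DSC.OM

/-! See `blueprint/DSC/README.md`. -/

set_option autoImplicit false
set_option linter.unusedSectionVars false
set_option linter.unusedVariables false

namespace H45.DSC

open Subgroup MulAction H69
open scoped commutatorElement

universe u

variable {G : Type u} [Group G] [Finite G] {D : Set G} {Q Q' X L : Subgroup G} {y y' : G}

private theorem p1_l {g u : G} (hg : g ∈ 𝐍(X)) (hu : u ∈ X) : ⁅g, u⁆ ∈ X :=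
  mul_mem (conj_mem_of_mem_normalizer hg hu) (inv_mem hu)

private theorem p1_r {g u : G} (hg : g ∈ 𝐍(X)) (hu : u ∈ X) : ⁅u, g⁆ ∈ X := by
  rw [← commutatorElement_inv]
  exact inv_mem (p1_l hg hu)

private theorem p1_sq (h : Min D) (hQ : Blk D Q) {g u : G} (hg : g ∈ 𝐍(Q)) (hu : u ∈ W Q) :
    ⁅g, ⁅g, u⁆⁆ = ⁅g * g, u⁆ := by
  have hp : g * u * g⁻¹ ∈ W Q := conj_mem_of_mem_normalizer (norm_W Q hg) hu
  have e1 := h.W_sq hQ hp
  have e2 := h.W_sq hQ hu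
  have e3 := (h.W_comm hQ hu (W_le Q hp)).inv_right
  calc _ = g * g * u * (g * g)⁻¹ * ((g * u * g⁻¹)⁻¹ * u) * (g * u * g⁻¹)⁻¹ := by
        simp only [commutatorElement_def]; group
    _ = g * g * u * (g * g)⁻¹ * u⁻¹ * (u * u) * (g * u * g⁻¹ * (g * u * g⁻¹))⁻¹ := by
        rw [← e3.eq]; group
    _ = _ := by rw [e1, e2, commutatorElement_def]; group

private theorem p1_cj (h : Min D) (hy : Pt D Q y) {b a : G} (hb : b ∈ 𝐍(Q)) (ha : a ∈ Q) :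
    ⁅b, y * a * y⁻¹⁆ ^ 2 = ⁅b, a⁆ ^ 2 := by
  have hq : y⁻¹ * b * y * b⁻¹ ∈ Q := by
    have := inv_mem (h.cm_norm hy (commutator_mem_commutator hb (inv_mem (mem_zpowers y))))
    simpa [commutatorElement_def, mul_assoc] using this
  obtain ⟨q, eq⟩ : ∃ q, q = y⁻¹ * b * y * b⁻¹ := ⟨_, rfl⟩
  rw [← eq] at hq
  have hc : ⁅b, a⁆ ∈ Q := p1_l hb ha
  have e : ⁅b, y * a * y⁻¹⁆ = y * (⁅q, ⁅b, a⁆⁆ * ⁅b, a⁆ * ⁅q, a⁆) * y⁻¹ := by
    rw [eq]
    simp only [commutatorElement_def]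
    group
  generalize ⁅b, a⁆ = c at *
  have w1 : ⁅q, c⁆ ∈ W Q := commutator_mem_commutator hq hc
  have w2 : ⁅q, a⁆ ∈ W Q := commutator_mem_commutator hq ha
  have e1 : ⁅q, c⁆ * c * ⁅q, a⁆ = c * (⁅q, c⁆ * ⁅q, a⁆) := by rw [(h.W_comm hy.blk w1 hc).eq, mul_assoc]
  have e2 := (h.W_comm hy.blk (mul_mem w1 w2) hc).symm.mul_pow 2
  rw [e, conj_pow, e1, e2, sq (_ * _), h.W_sq hy.blk (mul_mem w1 w2), mul_one,
    ← ((h.mem_W hy).1 (h.sq_W hy.blk hc)).2.eq, mul_inv_cancel_right]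

theorem Min.p1 (h : Min D) (hp : Pr D Q Q') : ∃ w ∈ W Q, w ≠ 1 ∧ w ∈ Q' := by
  by_contra hno
  replace hno : ∀ u ∈ W Q, u ∈ Q' → u = 1 := fun u hu hu' => by_contra fun c => hno ⟨u, hu, c, hu'⟩
  obtain ⟨w, hw, w1, hw'⟩ := hp.ex
  obtain ⟨y', hy'⟩ := hp.b'.exists_pt
  obtain ⟨y, hy⟩ := hp.b.exists_pt
  obtain ⟨b, hb, s, hs, sy, e, e2, hc⟩ := h.lemD hy' hw' (h.W_sq hp.b hw)
  have bQ : b ∈ Q' := V_le Q' w (cm_le (h.V_norm hy' hw') hb)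
  have zW : b * b ∈ W Q' := by rw [← sq]; exact h.sq_W hp.b' bQ
  have z1 : b * b ≠ 1 := fun c =>
    w1 (hno w hw (e ▸ h.mem_of_small hy' bQ hs sy e2 (by rw [sq, c])))
  have z2 := h.W_sq hp.b' zW
  have bM : b ∈ 𝐍(Q) := h.cent_le hp.b hw w1 (e ▸ (Commute.refl b).mul_right (hc b hb))
  have zM : b * b ∈ 𝐍(Q) := mul_mem bM bM
  have k0 : ∀ a, ⁅b, a⁆ ∈ W Q → Commute a (b * b) → ⁅b, a⁆ = 1 := fun a h1 h2 =>
    hno _ h1 (p1_r (h.cent_le hp.b' zW z1 h2) bQ)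
  have k1 : ∀ u ∈ W Q, ⁅b * b, u⁆ = 1 → ⁅b, u⁆ = 1 := fun u hu h2 =>
    k0 u (p1_l (norm_W Q bM) hu) (commutatorElement_eq_one_iff_commute.1 h2).symm
  have k2 : ∀ u ∈ W Q, Commute b u := fun u hu => by
    have u1 := p1_l (norm_W Q bM) hu
    have u2 := p1_l (norm_W Q bM) u1
    refine commutatorElement_eq_one_iff_commute.1 (k1 u hu ?_)
    rw [← p1_sq h hp.b bM hu]
    refine k1 _ u1 ?_
    rw [← p1_sq h hp.b bM u1]
    refine k1 _ u2 ?_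
    rw [p1_sq h hp.b bM hu, p1_sq h hp.b zM hu, z2, commutatorElement_one_left]
  have k3 : ∀ a ∈ V Q b, Commute b a := fun a ha => by
    refine commutatorElement_eq_one_iff_commute.1 (k0 a ha.2 ?_)
    have e1 : a * b⁻¹ * a⁻¹ = b⁻¹ * ⁅b, a⁆ := by simp only [commutatorElement_def]; group
    have e3 : a * (b * b)⁻¹ * a⁻¹ = (b * b)⁻¹ := by
      calc _ = (a * b⁻¹ * a⁻¹) * (a * b⁻¹ * a⁻¹) := by group
        _ = b⁻¹ * (⁅b, a⁆ * b⁻¹) * ⁅b, a⁆ := by rw [e1]; group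
        _ = (b * b)⁻¹ * (⁅b, a⁆ * ⁅b, a⁆) := by rw [← (k2 _ ha.2).inv_left.eq]; group
        _ = _ := by rw [h.W_sq hp.b ha.2, mul_one]
    exact Commute.inv_right_iff.1 (mul_inv_eq_iff_eq_mul.1 e3)
  have k4 : ∀ a ∈ V Q (b * b), ⁅b * b, a⁆ = ⁅b, a⁆ ^ 2 := fun a ha => by
    calc _ = b * ⁅b, a⁆ * b⁻¹ * ⁅b, a⁆ := by simp only [commutatorElement_def]; group
      _ = _ := by rw [(k3 _ (h.comm_mem_V hp.b bM ha)).eq, mul_inv_cancel_right, sq]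
  have yV := h.V_norm hy zM
  have k5 : V Q (b * b) ≤ centralizer {b * b} := by
    refine h.lemH hy (V_le _ _) yV (fun a _ ha => mem_centralizer_singleton_iff.2
      ((k2 a ha).mul_left (k2 a ha)).symm.eq) fun a ha => ?_
    have a1 := inv_mem ha
    have a2 := conj_mem_of_mem_normalizer yV a1
    have e1 : ⁅b * b, y * a⁻¹ * y⁻¹⁆ = ⁅b * b, a⁻¹⁆ := by rw [k4 _ a1, k4 _ a2, p1_cj h hy bM a1.1]
    rw [mem_centralizer_singleton_iff]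
    refine (commutatorElement_eq_one_iff_commute.1 ?_).symm.eq
    calc ⁅b * b, ⁅a, y⁆⁆ = ⁅b * b, a⁆ * (a * ⁅b * b, y * a⁻¹ * y⁻¹⁆ * a⁻¹) := by
          simp only [commutatorElement_def]; group
      _ = 1 := by rw [e1]; simp only [commutatorElement_def]; group
  obtain ⟨b0, hb0, s0, hs0, sy0, e0, e3, hc0⟩ := h.lemD hy zM z2
  have le0 := cm_le yV
  have zQ : b * b ∈ Q := by
    rw [e0]
    refine h.mem_of_small hy (le0 hb0).1 hs0 sy0 e3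
      (h.lemZ hy (le0.trans (V_le _ _)) (norm_cm yV) hb0 fun a ha => ?_)
    rw [← mul_inv_eq_iff_eq_mul.2 e0]
    exact Commute.mul_right (mem_centralizer_singleton_iff.1 (k5 (le0 ha))) (hc0 a ha).inv_right
  exact hp.ne (h.wc hp.b hp.b' fun a ha => h.cent_le hp.b' zW z1
    (mem_centralizer_singleton_iff.1 (k5 ⟨ha, commutator_mem_commutator zQ ha⟩)))

end H45.DSC
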