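import Mathlib
import Cfsg.Agent.Lib.DSC.P1

/-! See `blueprint/DSC/README.md`. -/

set_option autoImplicit false
set_option linter.unusedSectionVars false
set_option linter.unusedVariables false

namespace H45.DSC

open Subgroup MulAction H69
open scoped commutatorElement

universe u

variable {G : Type u} [Group G] [Finite G] {D : Set G} {Q Q' X L : Subgroup G} {y y' : G}

private theorem comm_of_sq {a b : G} (ha : a * a = 1) (hb : b * b = 1)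
    (hab : a * b * (a * b) = 1) : Commute a b := by
  have e : b * a = (a * a) * b * a * (b * b) := by rw [ha, hb]; group
  have e2 : (a * a) * b * a * (b * b) = a * (a * b * (a * b)) * b := by group
  show a * b = b * a
  rw [e, e2, hab]; group

private theorem comm_of_comm_eq {a b w : G} (e : ⁅a, w⁆ = ⁅b, w⁆) : Commute (b⁻¹ * a) w := by
  have e1 : a * w * a⁻¹ = b * w * b⁻¹ := by
    have := congrArg (· * w) e
    simpa only [commutatorElement_def, inv_mul_cancel_right] using this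
  show b⁻¹ * a * w = w * (b⁻¹ * a)
  calc b⁻¹ * a * w = b⁻¹ * (a * w * a⁻¹) * a := by group
    _ = w * (b⁻¹ * a) := by rw [e1]; group

private theorem comm_of_comm_eq' {a b u : G} (e : ⁅u, a⁆ = ⁅u, b⁆) : Commute u (b⁻¹ * a) := by
  refine (comm_of_comm_eq (w := u) ?_).symm
  rw [← commutatorElement_inv u a, ← commutatorElement_inv u b, e]

private theorem onto_of_card {K B : Subgroup G} (hc : Nat.card K ≤ Nat.card B) (f : G → G)
    (hf : ∀ b ∈ B, f b ∈ K) (hi : ∀ b ∈ B, ∀ b' ∈ B, f b = f b' → b = b') {v : G} (hv : v ∈ K) :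
    ∃ b ∈ B, f b = v := by
  let F : B → K := fun b => ⟨f b, hf b b.2⟩
  have hF : Function.Injective F := fun b b' e =>
    Subtype.ext (hi b b.2 b' b'.2 (congrArg Subtype.val e))
  have hb : Function.Bijective F :=
    (Nat.bijective_iff_injective_and_card F).2
      ⟨hF, le_antisymm (Nat.card_le_card_of_injective F hF) hc⟩
  obtain ⟨b, hb'⟩ := hb.2 ⟨v, hv⟩
  exact ⟨b, b.2, congrArg Subtype.val hb'⟩

private theorem comm_mem_left {K : Subgroup G} {a g : G} (ha : a ∈ K) (hg : g ∈ 𝐍(K)) :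
    ⁅a, g⁆ ∈ K := by
  have e : ⁅a, g⁆ = a * (g * a⁻¹ * g⁻¹) := by simp only [commutatorElement_def]; group
  rw [e]
  exact mul_mem ha ((mem_normalizer_iff.1 hg _).1 (inv_mem ha))

private theorem comm_mem_right {K : Subgroup G} {a g : G} (ha : a ∈ K) (hg : g ∈ 𝐍(K)) :
    ⁅g, a⁆ ∈ K := by
  rw [← commutatorElement_inv]
  exact inv_mem (comm_mem_left ha hg)

/-- the hypotheses of `Min.three` -/
private structure Gd (Q A B : Subgroup G) : Prop where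
  hA : A ≤ Q
  hBA : B ≤ A
  h2 : ∀ a ∈ A, a * a = 1
  hc : Nat.card (W Q) ≤ Nat.card B
  hB : ∀ w ∈ B, w ≠ 1 → ∀ a ∈ Q, Commute a w → a ∈ A

private theorem Gd.cj {A B : Subgroup G} (h : Gd Q A B) {g : G} (hg : g ∈ 𝐍(Q)) :
    Gd Q (A ^ᶜ g) (B ^ᶜ g) where
  hA := cj_le_of_mem_normalizer h.hA hg
  hBA := cj_mono g h.hBA
  h2 := by
    intro a ha
    obtain ⟨b, hb, rfl⟩ := mem_cj'.1 ha
    calc g * b * g⁻¹ * (g * b * g⁻¹) = g * (b * b) * g⁻¹ := by group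
      _ = 1 := by rw [h.h2 b hb]; group
  hc := by rw [card_cj]; exact h.hc
  hB := by
    intro w hw h1 a ha hc
    obtain ⟨b, hb, rfl⟩ := mem_cj'.1 hw
    rw [mem_cj]
    refine h.hB b hb (by rintro rfl; exact h1 (by group)) _ ?_ ?_
    · have := (mem_normalizer_iff.1 (inv_mem hg) a).1 ha
      rwa [inv_inv] at this
    · show g⁻¹ * a * g * b = b * (g⁻¹ * a * g)
      calc g⁻¹ * a * g * b = g⁻¹ * (a * (g * b * g⁻¹)) * g := by group
        _ = b * (g⁻¹ * a * g) := by rw [hc.eq]; group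

private theorem Gd.comm {A B : Subgroup G} (h : Gd Q A B) {a b : G} (ha : a ∈ A) (hb : b ∈ A) :
    Commute a b :=
  comm_of_sq (h.h2 a ha) (h.h2 b hb) (h.h2 _ (mul_mem ha hb))

private theorem Gd.disj {A B A' B' : Subgroup G} (h : Gd Q A B) (h' : Gd Q A' B')
    (hc : Nat.card A = Nat.card A') (hne : A ≠ A') {w : G} (hw : w ∈ B) (hw' : w ∈ A') : w = 1 := by
  by_contra h1
  have hle : A' ≤ A := fun a ha => h.hB w hw h1 a (h'.hA ha) (h'.comm ha hw')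
  exact hne (Subgroup.eq_of_le_of_card_ge hle hc.le).symm

private theorem Gd.exists_ne {A B : Subgroup G} (h : Gd Q A B) (hW : ∃ w ∈ W Q, w ≠ 1) :
    ∃ w ∈ B, w ≠ 1 := by
  by_contra hn
  push Not at hn
  have hb : B = ⊥ := (Subgroup.eq_bot_iff_forall _).2 hn
  obtain ⟨w, hw, h1⟩ := hW
  have h2 := h.hc
  rw [hb, Subgroup.card_bot] at h2
  have h3 : W Q = ⊥ := Subgroup.eq_bot_of_card_le _ h2
  rw [h3] at hw
  exact h1 (mem_bot.1 hw)

private theorem Gd.fac {A B A' B' : Subgroup G} (h : Gd Q A B) (h' : Gd Q A' B')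
    (hW : ∃ w ∈ W Q, w ≠ 1) (hd : ∀ w ∈ B, w ∈ A' → w = 1) {q : G} (hq : q ∈ Q) :
    ∃ b ∈ B, b⁻¹ * q ∈ A' := by
  obtain ⟨w, hw, h1⟩ := h'.exists_ne hW
  have hwQ : w ∈ Q := h'.hA (h'.hBA hw)
  have hBQ : B ≤ Q := h.hBA.trans h.hA
  obtain ⟨b, hb, e⟩ := onto_of_card h.hc (fun b => ⁅b, w⁆)
    (fun b hb => commutator_mem_commutator (hBQ hb) hwQ)
    (fun b hb b' hb' e => by
      have h2 : b'⁻¹ * b ∈ B := mul_mem (inv_mem hb') hb
      have h3 := hd _ h2 (h'.hB w hw h1 _ (hBQ h2) (comm_of_comm_eq e))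
      exact (inv_mul_eq_one.1 h3).symm)
    (commutator_mem_commutator hq hwQ)
  exact ⟨b, hb, h'.hB w hw h1 _ (mul_mem (inv_mem (hBQ hb)) hq) (comm_of_comm_eq e.symm)⟩

private theorem Gd.three {A₀ B₀ A₁ B₁ A₂ B₂ : Subgroup G} (h₀ : Gd Q A₀ B₀) (h₁ : Gd Q A₁ B₁)
    (h₂ : Gd Q A₂ B₂) (hW : ∃ w ∈ W Q, w ≠ 1) (c₁ : Nat.card A₀ = Nat.card A₁)
    (c₂ : Nat.card A₂ = Nat.card A₀) (n₁ : A₀ ≠ A₁) (n₂ : A₂ ≠ A₀) (n₃ : A₂ ≠ A₁) : False := by
  obtain ⟨w, hw, h1⟩ := h₂.exists_ne hW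
  obtain ⟨b, hb, ha⟩ := h₀.fac h₁ hW (fun w hw hw' => h₀.disj h₁ c₁ n₁ hw hw')
    (h₂.hA (h₂.hBA hw))
  by_cases hb1 : b = 1
  · rw [hb1, inv_one, one_mul] at ha
    exact h1 (h₂.disj h₁ (c₂.trans c₁) n₃ hw ha)
  · have hc : Commute b (b⁻¹ * w) := by
      refine comm_of_sq (h₀.h2 b (h₀.hBA hb)) (h₁.h2 _ ha) ?_
      rw [mul_inv_cancel_left]
      exact h₂.h2 w (h₂.hBA hw)
    have h3 : b⁻¹ * w ∈ A₀ := h₀.hB b hb hb1 _ (h₁.hA ha) hc.symm
    have h4 : w ∈ A₀ := by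
      have := mul_mem (h₀.hBA hb) h3
      rwa [mul_inv_cancel_left] at this
    exact h1 (h₂.disj h₀ c₂ n₂ hw h4)

theorem Min.p2_le (h : Min D) (hp : Pr D Q Q') : W Q ≤ 𝐍(Q') := by
  obtain ⟨t, ht, h1, htQ⟩ := h.p1 (h.pr_symm hp)
  intro w hw
  exact h.cent_le hp.b' ht h1 (h.W_comm hp.b hw htQ)

theorem Min.p2_comm (h : Min D) (hp : Pr D Q Q') {w w' : G} (hw : w ∈ W Q) (hw' : w' ∈ W Q') :
    Commute w w' := by
  rw [← commutatorElement_eq_one_iff_commute]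
  by_contra h1
  exact hp.ne (h.ti hp.b hp.b' (comm_mem_left hw (norm_W Q (h.p2_le (h.pr_symm hp) hw')))
    (comm_mem_right hw' (norm_W Q' (h.p2_le hp hw))) h1)

theorem Min.p2_A (h : Min D) (hp : Pr D Q Q') {t a : G} (ht : t ∈ W Q') (h1 : t ≠ 1) (htQ : t ∈ Q)
    (ha : a ∈ Q) : a ∈ 𝐍(Q') ↔ Commute a t := by
  refine ⟨fun hn => ?_, fun hc => h.cent_le hp.b' ht h1 hc⟩
  rw [← commutatorElement_eq_one_iff_commute]
  by_contra h2
  exact hp.ne (h.ti hp.b hp.b' (commutator_mem_commutator ha htQ)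
    (comm_mem_right ht (norm_W Q' hn)) h2)

theorem Min.p2_bij (h : Min D) (hQ : Blk D Q) (hQ' : Blk D Q') {u : G} (hu : u ∉ 𝐍(Q'))
    (hc : ∀ w' ∈ W Q', ⁅u, w'⁆ ∈ W Q) {v : G} (hv : v ∈ W Q) : ∃ w' ∈ W Q', ⁅u, w'⁆ = v := by
  refine onto_of_card (h.card_W hQ hQ').le (fun w' => ⁅u, w'⁆) hc (fun b hb b' hb' e => ?_) hv
  by_contra hne
  refine hu (h.cent_le hQ' (mul_mem (inv_mem hb') hb) (fun h1 => hne ?_) (comm_of_comm_eq' e))
  exact (inv_mul_eq_one.1 h1).symm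

theorem Min.inU_cj (h : Min D) (hy : Pt D Q y) {u : G} (hu : InU Q Q' u) (j : ℤ) :
    InU Q Q' (y ^ j * u * (y ^ j)⁻¹) := by
  refine ⟨(mem_normalizer_iff.1 (zpow_mem hy.norm j) u).1 hu.1, fun c hc hn => ?_⟩
  have h1 : u ∈ V Q c := ⟨hu.1, hu.2 c hc hn⟩
  exact ((mem_normalizer_iff.1 (zpow_mem (h.V_norm hy hn) j) u).1 h1).2

theorem Min.inU_of (h : Min D) (hQ' : Blk D Q') {t : G} (ht : t ∈ W Q') (htQ : t ∈ Q) : InU Q Q' t := by
  refine ⟨htQ, fun c hc _ => ?_⟩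
  rw [commutatorElement_eq_one_iff_commute.2 (h.W_comm hQ' ht hc).symm]
  exact one_mem _

theorem Min.three (h : Min D) (hy : Pt D Q y) {A B : Subgroup G} (hA : A ≤ Q) (hBA : B ≤ A)
    (h2 : ∀ a ∈ A, a * a = 1) (hc : Nat.card (W Q) ≤ Nat.card B)
    (hB : ∀ w ∈ B, w ≠ 1 → ∀ a ∈ Q, Commute a w → a ∈ A) : y ∈ 𝐍(A) := by
  by_contra hn
  have h₀ : Gd Q A B := ⟨hA, hBA, h2, hc, hB⟩
  have h₁ := h₀.cj hy.norm
  have h₂ := h₁.cj hy.norm
  have n₁ : A ≠ A ^ᶜ y := fun e => hn (cj_eq_self_iff.1 e.symm)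
  refine h₀.three h₁ h₂ (h.W_ne hy.blk) (card_cj _ _).symm (by rw [card_cj, card_cj]) n₁ ?_ ?_
  · intro e
    rw [cj_cj] at e
    obtain ⟨k, hk⟩ := h.odd y hy.mem
    have h3 : (y * y) ^ (k + 1) = y := by
      rw [← pow_two, ← pow_mul, show 2 * (k + 1) = (2 * k + 1) + 1 by ring, ← hk, pow_succ,
        pow_orderOf_eq_one, one_mul]
    exact hn (h3 ▸ pow_mem (cj_eq_self_iff.1 e) (k + 1))
  · intro e
    exact n₁ (cj_inj.1 e).symm

end H45.DSC
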