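import Mathlib
import Cfsg.Agent.Lib.DSC.P2

/-! See `blueprint/DSC/README.md`. -/

set_option autoImplicit false
set_option linter.unusedSectionVars false
set_option linter.unusedVariables false

namespace H45.DSC

open Subgroup MulAction H69
open scoped commutatorElement

universe u

variable {G : Type u} [Group G] [Finite G] {D : Set G} {Q Q' X L : Subgroup G} {y y' : G}

theorem Min.p3 (h : Min D) (hp : Pr D Q Q') {u : G} (hu : InU Q Q' u) : u ∈ 𝐍(Q') := by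
  by_contra hn
  have hp' := h.pr_symm hp
  obtain ⟨y', hy'⟩ := hp.b'.exists_pt
  have k0 : ∀ c ∈ Q' ⊓ 𝐍(Q), ⁅u, c⁆ ∈ W Q := fun c hc => by
    rw [← commutatorElement_inv]
    exact inv_mem (hu.2 c hc.1 hc.2)
  have lW : W Q' ≤ Q' ⊓ 𝐍(Q) := le_inf (W_le Q') (h.p2_le hp')
  have ka : ∀ c ∈ Q' ⊓ 𝐍(Q), c * c = 1 := fun c hc => by
    obtain ⟨w, hw, e⟩ := h.p2_bij hp.b hp.b' hn (fun w hw => k0 w (lW hw)) (k0 c hc)
    have c1 : Commute u (w⁻¹ * c) := by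
      simp only [commutatorElement_def] at e
      calc u * (w⁻¹ * c) = w⁻¹ * (u * w * u⁻¹ * w⁻¹)⁻¹ * (u * c * u⁻¹ * c⁻¹) * c * u := by group
        _ = _ := by rw [e]; group
    have c2 : (w⁻¹ * c) ^ 2 = c * c := by
      rw [(h.W_comm hp.b' hw hc.1).inv_left.mul_pow, inv_pow, sq, h.W_sq hp.b' hw, inv_one, one_mul, sq]
    by_contra n
    exact hn (h.cent_le hp.b' (sq c ▸ h.sq_W hp.b' hc.1) n (c2 ▸ c1.pow_right 2))
  have kb : W Q ≤ Q' ⊓ 𝐍(Q) := fun w hw => by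
    refine ⟨?_, le_normalizer (W_le Q hw)⟩
    by_cases w1 : w = 1
    · exact w1 ▸ one_mem _
    obtain ⟨b, hb, s, hs, c, e, e2, hc⟩ := h.lemD hy' (h.p2_le hp hw) (h.W_sq hp.b hw)
    have bQ : b ∈ Q' := h.cm_self hy' ▸ commutator_mono (V_le Q' w) le_rfl hb
    have bN := h.cent_le hp.b hw w1 (e ▸ (Commute.refl b).mul_right (hc b hb))
    exact e ▸ h.mem_of_small hy' bQ hs c e2 (sq b ▸ ka b ⟨bQ, bN⟩)
  have kc : u ∈ 𝐍(Q' ⊓ 𝐍(Q)) := mem_normalizer_fintype fun c hc => by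
    have := mul_mem (kb (k0 c hc)) hc
    rwa [commutatorElement_def, inv_mul_cancel_right] at this
  have kd : y' ∈ 𝐍(Q' ⊓ 𝐍(Q)) := h.three hy' inf_le_left kb ka (h.card_W hp.b' hp.b).le
    fun w hw w1 a ha c => ⟨ha, h.cent_le hp.b hw w1 c⟩
  obtain ⟨w, hw, w1⟩ := h.W_ne hp.b'
  have m := h.conj y' hy'.mem u
  have ke := h.pt_of_norm hy' m (hp.b'.p2.to_le inf_le_left) kd
    (mul_mem (mul_mem kc kd) (inv_mem kc)) hw w1 (lW hw)
  exact hn (cj_eq_self_iff.1 (h.fix (h.pt_cj hy' u) ⟨hp.b', m, ke⟩ (cj_W Q' u ▸ cj_mem u hw)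
    (by simpa using w1) (le_normalizer (conj_mem_of_mem_normalizer kc (lW hw)).1)))

end H45.DSC
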