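import Mathlib
import Cfsg.Agent.Lib.DSC.P3

/-! See `blueprint/DSC/README.md`. -/

set_option autoImplicit false
set_option linter.unusedSectionVars false
set_option linter.unusedVariables false

namespace H45.DSC

open Subgroup MulAction H69
open scoped commutatorElement

universe u

variable {G : Type u} [Group G] [Finite G] {D : Set G} {Q Q' X L : Subgroup G} {y y' : G}

theorem Min.p5_case (h : Min D) (hp : Pr D Q Q') (hy : Pt D Q' y) (j : ℤ) :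
    Q ^ᶜ (y ^ j) = Q ∨ Pr D (Q ^ᶜ (y ^ j)) Q := by
  refine or_iff_not_imp_left.2 fun ne => ?_
  obtain ⟨v, hv, v1, vQ⟩ := h.p1 hp
  exact ⟨h.blk_cj hp.b _, hp.b, ne, _, cj_W Q _ ▸ cj_mem _ hv, by simpa using v1,
    h.p3 (h.pr_symm hp) (h.inU_cj hy (h.inU_of hp.b hv vQ) j)⟩

theorem Min.p5_comm (h : Min D) (hp : Pr D Q Q') (hy : Pt D Q' y) (j : ℤ) {w v : G} (hw : w ∈ W Q)
    (hv : v ∈ W Q) : Commute w (y ^ j * v * (y ^ j)⁻¹) := by
  have m : y ^ j * v * (y ^ j)⁻¹ ∈ W (Q ^ᶜ (y ^ j)) := cj_W Q _ ▸ cj_mem _ hv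
  rcases h.p5_case hp hy j with e | e
  · rw [e] at m
    exact h.W_comm hp.b hw (W_le Q m)
  · exact (h.p2_comm e m hw).symm

theorem Min.p5 (h : Min D) (hp : Pr D Q Q') : W Q ≤ Q' := fun w hw => by
  obtain ⟨y, hy⟩ := hp.b'.exists_pt
  have wN := h.p2_le hp hw
  obtain ⟨b, hb, s, hs, sy, e, e2, c⟩ := h.lemD hy wN (h.W_sq hp.b hw)
  have yV := h.V_norm hy wN
  have bQ : b ∈ Q' := V_le _ _ (cm_le yV hb)
  have k : ∀ j : ℤ, y ^ j * b * (y ^ j)⁻¹ * b = b * (y ^ j * b * (y ^ j)⁻¹) := fun j => by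
    have c1 := (c _ (conj_mem_of_mem_normalizer (zpow_mem (norm_cm yV) j) hb)).eq
    have c2 := (h.p5_comm hp hy j hw hw).eq
    have e1 : y ^ j * w * (y ^ j)⁻¹ = y ^ j * b * (y ^ j)⁻¹ * s := by
      rw [e, mul_assoc _ _ s, ← (sy.zpow_right j).inv_right.eq]; group
    rw [e1, e] at c2
    generalize y ^ j * b * (y ^ j)⁻¹ = a at c1 c2
    refine mul_right_cancel (b := s * s) ?_
    calc a * b * (s * s) = a * (b * s) * s := by group
      _ = a * (s * b) * s := by rw [(c b hb).eq]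
      _ = a * s * (b * s) := by group
      _ = b * (s * a) * s := by rw [← c2]; group
      _ = _ := by rw [← c1]; group
  refine e ▸ h.mem_of_small hy bQ hs sy e2 (h.lemZ hy
    (X := Q' ⊓ centralizer {x | ∃ j : ℤ, x = y ^ j * b * (y ^ j)⁻¹}) inf_le_left
    (mem_normalizer_of_cj_le ?_) ⟨bQ, ?_⟩ fun a ha => (ha.2 b ⟨0, by simp⟩).symm)
  · rintro _ ⟨a, ha, rfl⟩
    refine ⟨conj_mem_of_mem_normalizer hy.norm ha.1, ?_⟩
    rintro _ ⟨j, rfl⟩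
    have := ha.2 _ ⟨j - 1, rfl⟩
    show _ * (y * a * y⁻¹) = y * a * y⁻¹ * _
    calc _ = y * (y ^ (j - 1) * b * (y ^ (j - 1))⁻¹ * a) * y⁻¹ := by group
      _ = _ := by rw [this]; group
  · rintro _ ⟨j, rfl⟩
    exact k j

theorem Min.p5_cj (h : Min D) (hp : Pr D Q Q') (hy : Pt D Q' y) (j : ℤ) {v a : G} (hv : v ∈ W Q)
    (ha : a ∈ Q) (ha' : a ∈ 𝐍(Q')) :
    y ^ j * v * (y ^ j)⁻¹ ∈ Q ∧ Commute a (y ^ j * v * (y ^ j)⁻¹) := by
  have m : y ^ j * v * (y ^ j)⁻¹ ∈ W (Q ^ᶜ (y ^ j)) := cj_W Q _ ▸ cj_mem _ hv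
  have iQ : y ^ j * v * (y ^ j)⁻¹ ∈ Q :=
    (h.p5_case hp hy j).elim (fun e => W_le Q (by rwa [e] at m)) fun e => h.p5 e m
  refine ⟨iQ, commutatorElement_eq_one_iff_commute.1 (by_contra fun ne => hp.ne ?_)⟩
  exact h.ti hp.b hp.b' (commutator_mem_commutator ha iQ)
    ((h.inU_cj hy (h.inU_of hp.b hv (h.p5 hp hv)) j).2 a ha ha') ne

end H45.DSC
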