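import Mathlib
import Cfsg.Agent.Lib.DSC.P5

/-! See `blueprint/DSC/README.md`. -/

set_option autoImplicit false
set_option linter.unusedSectionVars false
set_option linter.unusedVariables false

namespace H45.DSC

open Subgroup MulAction H69
open scoped commutatorElement

universe u

variable {G : Type u} [Group G] [Finite G] {D : Set G} {Q Q' X L : Subgroup G} {y y' : G}

private theorem p6_cW (h : Min D) (hp : Pr D Q Q') {c ω : G} (hc : c ∈ Q') (hcN : c ∈ 𝐍(Q))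
    (hω : ω ∈ W Q) : Commute c ω := by
  have h1 : ⁅c, ω⁆ ∈ W Q' := commutator_mem_commutator hc (h.p5 hp hω)
  have h2 : ⁅c, ω⁆ ∈ W Q := by
    rw [commutatorElement_def]
    exact mul_mem ((mem_normalizer_iff.1 (norm_W Q hcN) ω).1 hω) (inv_mem hω)
  by_contra hn
  exact hp.ne (h.ti hp.b hp.b' h2 h1 (fun e => hn (commutatorElement_eq_one_iff_commute.1 e)))

private theorem p6_key (h : Min D) (hp : Pr D Q Q') {i c : G} (hiQ : i ∈ Q) (hiQ' : i ∈ Q')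
    (hi : ∀ a ∈ Q, a ∈ 𝐍(Q') → Commute a i) (hc : c ∈ Q') (hcN : c ∈ 𝐍(Q)) : Commute c i := by
  have hp' := h.pr_symm hp
  have hW'Q : W Q' ≤ Q := h.p5 hp'
  obtain ⟨a₀, ha₀, ha₀N⟩ : ∃ a₀ ∈ Q, a₀ ∉ 𝐍(Q') := by
    by_contra hn
    push Not at hn
    exact hp.ne (h.wc hp.b hp.b' hn)
  obtain ⟨w₁, hw₁, e₁⟩ := h.p2_bij hp.b hp.b' ha₀N
    (fun w' hw' => commutator_mem_commutator ha₀ (hW'Q hw'))
    (commutator_mem_commutator ha₀ hiQ : ⁅a₀, i⁆ ∈ W Q)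
  have hi₁ : a₀ * (w₁⁻¹ * i) = (w₁⁻¹ * i) * a₀ := by
    have e₂ : w₁ * a₀⁻¹ * w₁⁻¹ = i * a₀⁻¹ * i⁻¹ := by
      have : a₀ * (w₁ * a₀⁻¹ * w₁⁻¹) = a₀ * (i * a₀⁻¹ * i⁻¹) := by
        simpa only [commutatorElement_def, mul_assoc] using e₁
      exact mul_left_cancel this
    calc a₀ * (w₁⁻¹ * i) = a₀ * w₁⁻¹ * (i * a₀⁻¹ * i⁻¹) * i * a₀ := by group
      _ = a₀ * w₁⁻¹ * (w₁ * a₀⁻¹ * w₁⁻¹) * i * a₀ := by rw [e₂]
      _ = (w₁⁻¹ * i) * a₀ := by group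
  have hv : ⁅c, i⁆ ∈ W Q' := commutator_mem_commutator hc hiQ'
  set v := ⁅c, i⁆ with hvdef
  have hcw : Commute w₁ c := h.W_comm hp.b' hw₁ hc
  have hvw : Commute v w₁ := h.W_comm hp.b' hv (W_le _ hw₁)
  have e₃ : c * (w₁⁻¹ * i) * c⁻¹ = v * (w₁⁻¹ * i) := by
    calc c * (w₁⁻¹ * i) * c⁻¹ = (c * w₁⁻¹) * i * c⁻¹ := by group
      _ = (w₁⁻¹ * c) * i * c⁻¹ := by rw [hcw.inv_left.eq]
      _ = (w₁⁻¹ * v) * i := by rw [hvdef, commutatorElement_def]; group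
      _ = (v * w₁⁻¹) * i := by rw [hvw.inv_right.eq]
      _ = v * (w₁⁻¹ * i) := by group
  set d := c⁻¹ * (a₀⁻¹ * c * a₀) with hd
  have hdQ : d ∈ Q := by
    have : d = (c⁻¹ * a₀⁻¹ * c⁻¹⁻¹) * a₀ := by rw [hd]; group
    rw [this]
    exact mul_mem ((mem_normalizer_iff.1 (inv_mem hcN) _).1 (inv_mem ha₀)) ha₀
  have hdW : ∀ t ∈ W Q', Commute d t := by
    intro t ht
    have hct : Commute c t := (h.W_comm hp.b' ht hc).symm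
    have hω : ⁅a₀, t⁆ ∈ W Q := commutator_mem_commutator ha₀ (hW'Q ht)
    have hcω : Commute c ⁅a₀, t⁆ := p6_cW h hp hc hcN hω
    have h3 : Commute c (a₀ * t * a₀⁻¹) := by
      have : a₀ * t * a₀⁻¹ = ⁅a₀, t⁆ * t := by rw [commutatorElement_def]; group
      rw [this]
      exact hcω.mul_right hct
    have h4 : Commute (a₀⁻¹ * c * a₀) t := by
      show a₀⁻¹ * c * a₀ * t = t * (a₀⁻¹ * c * a₀)
      calc a₀⁻¹ * c * a₀ * t = a₀⁻¹ * (c * (a₀ * t * a₀⁻¹)) * a₀ := by group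
        _ = a₀⁻¹ * ((a₀ * t * a₀⁻¹) * c) * a₀ := by rw [h3.eq]
        _ = t * (a₀⁻¹ * c * a₀) := by group
    exact hct.inv_left.mul_left h4
  have hdN : d ∈ 𝐍(Q') := by
    obtain ⟨t, ht, ht1⟩ := h.W_ne hp.b'
    exact (h.p2_A hp ht ht1 (hW'Q ht) hdQ).2 (hdW t ht)
  have hdi : Commute d (w₁⁻¹ * i) := (hdW w₁ hw₁).inv_right.mul_right (hi d hdQ hdN)
  have e₄ : a₀⁻¹ * v * a₀ * (w₁⁻¹ * i) = v * (w₁⁻¹ * i) := by
    calc a₀⁻¹ * v * a₀ * (w₁⁻¹ * i) = a₀⁻¹ * v * (a₀ * (w₁⁻¹ * i)) := by group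
      _ = a₀⁻¹ * (v * (w₁⁻¹ * i)) * a₀ := by rw [hi₁]; group
      _ = a₀⁻¹ * (c * (w₁⁻¹ * i) * c⁻¹) * a₀ := by rw [e₃]
      _ = a₀⁻¹ * c * ((w₁⁻¹ * i) * a₀) * a₀⁻¹ * c⁻¹ * a₀ := by group
      _ = a₀⁻¹ * c * (a₀ * (w₁⁻¹ * i)) * a₀⁻¹ * c⁻¹ * a₀ := by rw [hi₁]
      _ = c * (d * (w₁⁻¹ * i)) * d⁻¹ * c⁻¹ := by rw [hd]; group
      _ = c * ((w₁⁻¹ * i) * d) * d⁻¹ * c⁻¹ := by rw [hdi.eq]
      _ = c * (w₁⁻¹ * i) * c⁻¹ := by group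
      _ = v * (w₁⁻¹ * i) := e₃
  have e₅ : a₀⁻¹ * v * a₀ = v := mul_right_cancel e₄
  have hav : Commute a₀ v := by
    show a₀ * v = v * a₀
    calc a₀ * v = a₀ * (a₀⁻¹ * v * a₀) := by rw [e₅]
      _ = v * a₀ := by group
  have hv1 : v = 1 := by
    by_contra hn
    exact ha₀N (h.cent_le hp.b' hv hn hav)
  exact commutatorElement_eq_one_iff_commute.1 hv1

private theorem p6_A' (h : Min D) (hp : Pr D Q Q') (hy : Pt D Q' y) (j : ℤ) {c : G}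
    (hc : c ∈ Q' ⊓ 𝐍(Q)) : y ^ j * c * (y ^ j)⁻¹ ∈ Q' ⊓ 𝐍(Q) := by
  have hp' := h.pr_symm hp
  obtain ⟨w, hw, hw1⟩ := h.W_ne hp.b
  have hyj : ∀ k : ℤ, y ^ k ∈ 𝐍(Q') := fun k => zpow_mem hy.norm k
  have hiQ := (h.p5_cj hp hy (-j) hw (one_mem Q) (one_mem _)).1
  have hiQ' : y ^ (-j) * w * (y ^ (-j))⁻¹ ∈ Q' := (mem_normalizer_iff.1 (hyj (-j)) w).1 (h.p5 hp hw)
  have hci := p6_key h hp hiQ hiQ' (fun a ha ha' => (h.p5_cj hp hy (-j) hw ha ha').2) hc.1 hc.2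
  have h1 : y ^ j * c * (y ^ j)⁻¹ ∈ Q' := (mem_normalizer_iff.1 (hyj j) c).1 hc.1
  refine ⟨h1, (h.p2_A hp' hw hw1 (h.p5 hp hw) h1).2 ?_⟩
  show y ^ j * c * (y ^ j)⁻¹ * w = w * (y ^ j * c * (y ^ j)⁻¹)
  have e := hci.eq
  rw [zpow_neg, inv_inv] at e
  calc y ^ j * c * (y ^ j)⁻¹ * w = y ^ j * (c * ((y ^ j)⁻¹ * w * y ^ j)) * (y ^ j)⁻¹ := by group
    _ = y ^ j * (((y ^ j)⁻¹ * w * y ^ j) * c) * (y ^ j)⁻¹ := by rw [e]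
    _ = w * (y ^ j * c * (y ^ j)⁻¹) := by group

private theorem p6_norm {X : Subgroup G} {y : G}
    (H : ∀ j : ℤ, ∀ x ∈ X, y ^ j * x * (y ^ j)⁻¹ ∈ X) : y ∈ 𝐍(X) := by
  rw [mem_normalizer_iff]
  intro x
  constructor
  · intro hx
    simpa using H 1 x hx
  · intro hx
    have := H (-1) _ hx
    simpa [mul_assoc] using this

theorem Min.p6_A (h : Min D) (hp : Pr D Q Q') (hy : Pt D Q' y) : y ∈ 𝐍(Q' ⊓ 𝐍(Q)) := by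
  exact p6_norm fun j x hx => p6_A' h hp hy j hx

theorem Min.p6_X (h : Min D) (hp : Pr D Q Q') (hy : Pt D Q' y) : y ∈ 𝐍((Q ⊓ 𝐍(Q')) ⊔ (Q' ⊓ 𝐍(Q))) := by
  refine p6_norm fun j => ?_
  have H : (Q ⊓ 𝐍(Q')) ⊔ (Q' ⊓ 𝐍(Q)) ≤
      ((Q ⊓ 𝐍(Q')) ⊔ (Q' ⊓ 𝐍(Q))).comap (MulAut.conj (y ^ j)).toMonoidHom := by
    refine sup_le ?_ ?_
    · intro d hd
      show y ^ j * d * (y ^ j)⁻¹ ∈ (Q ⊓ 𝐍(Q')) ⊔ (Q' ⊓ 𝐍(Q))
      obtain ⟨w, hw, hw1⟩ := h.W_ne hp.b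
      have e := (h.p5_cj hp hy (-j) hw hd.1 hd.2).2.eq
      rw [zpow_neg, inv_inv] at e
      have h1 : y ^ j * d * (y ^ j)⁻¹ ∈ 𝐍(Q) := by
        refine h.cent_le hp.b hw hw1 ?_
        show y ^ j * d * (y ^ j)⁻¹ * w = w * (y ^ j * d * (y ^ j)⁻¹)
        calc y ^ j * d * (y ^ j)⁻¹ * w = y ^ j * (d * ((y ^ j)⁻¹ * w * y ^ j)) * (y ^ j)⁻¹ := by group
          _ = y ^ j * (((y ^ j)⁻¹ * w * y ^ j) * d) * (y ^ j)⁻¹ := by rw [e]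
          _ = w * (y ^ j * d * (y ^ j)⁻¹) := by group
      have h2 : ⁅d, y ^ j⁆ ∈ Q' :=
        h.cm_norm hy (commutator_mem_commutator hd.2 (zpow_mem (mem_zpowers y) j))
      have h3 : ⁅d, y ^ j⁆⁻¹ ∈ 𝐍(Q) := by
        have : ⁅d, y ^ j⁆⁻¹ = (y ^ j * d * (y ^ j)⁻¹) * d⁻¹ := by rw [commutatorElement_def]; group
        rw [this]
        exact mul_mem h1 (inv_mem (le_normalizer hd.1))
      have h4 : y ^ j * d * (y ^ j)⁻¹ = ⁅d, y ^ j⁆⁻¹ * d := by rw [commutatorElement_def]; group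
      rw [h4]
      exact mul_mem (mem_sup_right (mem_inf.2 ⟨inv_mem h2, h3⟩)) (mem_sup_left hd)
    · intro c hc
      exact mem_sup_right (p6_A' h hp hy j hc)
  intro x hx
  exact H hx

theorem Min.p6 (h : Min D) (hp : Pr D Q Q') : False := by
  have hp' := h.pr_symm hp
  obtain ⟨y, hy⟩ := hp.b.exists_pt
  obtain ⟨y', hy'⟩ := hp.b'.exists_pt
  obtain ⟨w, hw, hw1⟩ := h.W_ne hp.b
  have hX : IsPGroup 2 ((Q ⊓ 𝐍(Q')) ⊔ (Q' ⊓ 𝐍(Q)) : Subgroup G) := by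
    refine IsPGroup.to_sup_of_normal_right' (hp.b.p2.to_le inf_le_left) (hp.b'.p2.to_le inf_le_left) ?_
    intro a ha
    rw [mem_normalizer_iff]
    intro x
    have h1 := mem_normalizer_iff.1 ha.2 x
    have h2 := mem_normalizer_iff.1 (le_normalizer (H := 𝐍(Q)) (le_normalizer ha.1)) x
    exact and_congr h1 h2
  have h1 := h.p6_X hp hy'
  have h2 := h.p6_X hp' hy
  rw [sup_comm] at h2
  have hwN : w ∈ 𝐍(Q') := h.p2_le hp hw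
  have h3 := h.pt_of_norm hy hy'.mem hX h2 h1 hw hw1 (mem_sup_left ⟨W_le Q hw, hwN⟩)
  exact hp.ne (h.fix ⟨hp.b, hy'.mem, h3⟩ hy' hw hw1 hwN)

end H45.DSC
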