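import Mathlib
import Cfsg.Agent.Lib.DSC.HM

/-! See `blueprint/DSC/README.md`. -/

set_option autoImplicit false
set_option linter.unusedSectionVars false
set_option linter.unusedVariables false

namespace H45.DSC

open Subgroup MulAction H69
open scoped commutatorElement

universe u

variable {G Ω : Type*} [Group G] [Finite G] [MulAction G Ω] [Finite Ω] {α β : Ω}
  {N T H X : Subgroup G}

private theorem pa_le (hF : H74.ONS.Fac N T) {K : Subgroup G}
    (hP : ∀ S, H74.ONS.Fac N S → H74.ONS.PType N S H)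
    (hK : ∀ S, H74.ONS.Fac N S → S ⊓ H ≤ K) : N ⊓ H ≤ K := by
  have key : ∀ n : ℕ, ∀ d ∈ N ⊓ H,
      {S : Subgroup G | H74.ONS.Fac N S ∧ d ∉ 𝐂(S)}.ncard = n → d ∈ K := by
    intro n
    induction n using Nat.strong_induction_on with
    | _ n ih =>
      intro d hd hn
      by_cases h0 : ∃ S, H74.ONS.Fac N S ∧ d ∉ 𝐂(S)
      · obtain ⟨S, hS, hdS⟩ := h0
        obtain ⟨t, ht, c, hc, hc', rfl⟩ := hS.decomp hd.1
        have htH : t ∈ H := hP S hS t ht c hc hc' hd.2
        have hcH : c ∈ H := by simpa using H.mul_mem (H.inv_mem htH) hd.2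
        refine K.mul_mem (hK S hS ⟨ht, htH⟩) (ih _ ?_ c ⟨hc, hcH⟩ rfl)
        rw [← hn]
        refine Set.ncard_lt_ncard ⟨?_, ?_⟩ (Set.toFinite _)
        · rintro S' ⟨hS', h'⟩
          refine ⟨hS', fun e => h' ?_⟩
          by_cases e' : S' = S
          · exact e' ▸ hc'
          · have := hS'.le_centralizer hS e' ht
            simpa using mul_mem (inv_mem this) e
        · intro hsub
          exact (hsub ⟨hS, hdS⟩).2 hc'
      · push Not at h0
        have h1 : N ≤ centralizer {d} := hF.le_of_forall_cj fun g x hx =>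
          mem_centralizer_singleton_iff.2 (h0 _ (hF.cj g) x hx)
        have : d = 1 := hF.eq_one_of_centralizer_N hd.1 fun n hn =>
          mem_centralizer_singleton_iff.1 (h1 hn)
        rw [this]; exact one_mem _
  exact fun d hd => key _ d hd rfl

theorem Sc.pa (h : Sc G α β) (hF : H74.ONS.Fac N T) (hne : T ≠ N)
    (hP : H74.ONS.PType N T (stabilizer G α)) : N ⊓ stabilizer G α = ⊥ := by
  by_contra hD
  haveI := h.faith
  haveI := h.prim
  obtain ⟨k₀, hk₀, hk₀'⟩ := h.mv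
  haveI : Nontrivial Ω := ⟨⟨_, _, hk₀'⟩⟩
  have hs : ∀ a : Ω, N ⊔ stabilizer G a = ⊤ :=
    H74.ONS.sup_stabilizer_eq_top h.prim hF.normal hF.N_ne_bot
  have hPα : ∀ S, H74.ONS.Fac N S → H74.ONS.PType N S (stabilizer G α) :=
    fun S hS => hF.pType_of_pType hS (hs α) hP
  have hPβ : ∀ S, H74.ONS.Fac N S → H74.ONS.PType N S (stabilizer G β) := by
    obtain ⟨g, hg⟩ := exists_smul_eq G α β
    intro S hS
    have := hP.cj hF.normal g
    rw [← H74.ONS.stabilizer_smul, hg] at this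
    exact (hF.cj g).pType_of_pType hS (hs β) this
  have hcj : ∀ g : G, g • α = α →
      (T ⊓ stabilizer G α) ^ᶜ g = H74.ONS.cj g T ⊓ stabilizer G α := by
    intro g hg
    rw [cj_inf, cj_eq_of_mem (mem_stabilizer_iff.2 hg)]
    congr 1
  have hmv := h.moves hF.normal hD
  have hnD : stabilizer G α ≤ 𝐍(N ⊓ stabilizer G α) := by
    haveI := hF.normal
    intro g hg
    rw [← cj_eq_self_iff, cj_inf, cj_eq_of_mem hg, cj_eq_of_normal]
  have key := h.ham (X := T ⊓ stabilizer G α) (E := N ⊓ stabilizer G α) inf_le_right inf_le_right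
    (by
      intro g hg d hd
      have e : H74.ONS.cj g T ^ᶜ d = H74.ONS.cj g T := (hF.cj g).cj_eq hd.1
      rw [hcj g hg, ← cj_eq_self_iff, cj_inf, cj_eq_of_mem hd.2, e])
    (fun g hg => h.tr inf_le_right hnD hmv hg)
    (by
      by_contra hc
      push Not at hc
      refine hmv (pa_le hF hPα fun S hS => ?_)
      obtain ⟨k, hk, rfl⟩ := hF.exists_cj_eq_of_sup hS (hs α)
      rw [← hcj k hk]
      exact hc k hk)
    (by
      intro g₂ g₃ h₂ h₃ hne₂ x₁ hx₁ x₂ hx₂ x₃ hx₃ e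
      rw [hcj _ h₂] at hne₂ hx₂
      rw [hcj _ h₃] at hx₃
      have n₂ : T ≠ H74.ONS.cj g₂ T := fun e => hne₂ (by rw [← e])
      by_cases n₃ : T = H74.ONS.cj g₃ T
      · right
        rw [← n₃] at hx₃
        have hm : x₃⁻¹ * x₁ ∈ T := T.mul_mem (T.inv_mem hx₃.1) hx₁.1
        refine hPβ _ (hF.cj g₂) x₂ hx₂.1 _ (hF.le hm)
          ((hF.cj g₂).le_centralizer hF n₂.symm hm) ?_
        rw [← hF.commute (hF.cj g₂) n₂ hm hx₂.1]
        exact e
      · left
        refine hPβ _ hF x₁ hx₁.1 (x₃⁻¹ * x₂)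
          (N.mul_mem (N.inv_mem ((hF.cj g₃).le hx₃.1)) ((hF.cj g₂).le hx₂.1))
          (mul_mem (inv_mem (hF.le_centralizer (hF.cj g₃) n₃ hx₃.1))
            (hF.le_centralizer (hF.cj g₂) n₂ hx₂.1)) ?_
        rw [← mul_assoc, hF.commute (hF.cj g₃) n₃ hx₁.1 (inv_mem hx₃.1)]
        exact e)
  obtain ⟨g, hg⟩ := hF.exists_ne hne
  obtain ⟨k, hk, e⟩ := hF.exists_cj_eq_of_sup (hF.cj g) (hs α)
  have e1 := cj_eq_of_mem_normalizer (key.1 hk)
  rw [hcj k hk, e] at e1
  refine key.2 fun x hx => ?_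
  have : x ∈ H74.ONS.cj g T ⊓ T := ⟨(e1.symm ▸ hx : x ∈ H74.ONS.cj g T ⊓ stabilizer G α).1, hx.1⟩
  rw [(hF.cj g).inf_eq_bot hF hg, mem_bot] at this
  rw [this]; exact one_mem _

end H45.DSC
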