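import Mathlib
import Cfsg.Agent.Lib.DSC.Defs

/-! See `blueprint/DSC/README.md`. -/

set_option autoImplicit false
set_option linter.unusedSectionVars false
set_option linter.unusedVariables false

namespace H45.DSC

open Subgroup MulAction H69
open scoped commutatorElement

universe u

variable {G Ω : Type*} [Group G] [Finite G] [MulAction G Ω] [Finite Ω] {α β : Ω}
  {N T H X : Subgroup G}

theorem SA_nT (hF : H74.ONS.Fac N T) : N ≤ 𝐍(𝐂(T)) :=
  H69.le_normalizer_centralizer (le_normalizer_of_cj_le fun g hg t ht => by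
    obtain ⟨a, ha, rfl⟩ := mem_cj'.1 ht
    exact hF.conj g hg a ha)

theorem SA_simple (hs : IsSimpleGroup X) {Y : Subgroup G} (h1 : Y ≤ X) (h2 : X ≤ 𝐍(Y)) : Y = ⊥ ∨ Y = X := by
  rcases (normal_subgroupOf_of_le_normalizer h2).eq_bot_or_eq_top with h | h
  · left
    rw [subgroupOf_eq_bot] at h
    exact h.eq_bot_of_le h1
  · right
    exact le_antisymm h1 (subgroupOf_eq_top.1 h)

theorem eq_one_of_fac (hF : H74.ONS.Fac N T) {c : G} (hc : c ∈ N)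
    (h : ∀ T', H74.ONS.Fac N T' → c ∈ 𝐂(T')) : c = 1 := by
  have := hF.le_of_forall_cj (Y := centralizer {c}) fun g t ht =>
    mem_centralizer_singleton_iff.2 (h _ (hF.cj g) t ht)
  exact hF.eq_one_of_centralizer_N hc fun n hn => mem_centralizer_singleton_iff.1 (this hn)

theorem exists_strip (hF : H74.ONS.Fac N T) (hs : N ⊔ H = ⊤) (hS : H74.ONS.SType N T H) :
    ∃ X, Strip N H X := by
  have hD : N ⊓ H ≠ ⊥ := by
    obtain ⟨⟨t, ht⟩, h1⟩ := ne_bot_iff_exists_ne_one.1 hF.ne_bot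
    obtain ⟨c, hc, hc', he⟩ := hS t ht
    intro e
    have : t * c ∈ N ⊓ H := ⟨mul_mem (hF.le ht) hc, he⟩
    rw [e, mem_bot, mul_eq_one_iff_eq_inv] at this
    exact h1 (Subtype.ext (hF.eq_one_of_centralizer ht (this ▸ inv_mem hc')))
  obtain ⟨X, ⟨hle, hne, hn⟩, hmin⟩ := (wellFounded_lt (α := Subgroup G)).has_min
    {Y | Y ≤ N ⊓ H ∧ Y ≠ ⊥ ∧ N ⊓ H ≤ 𝐍(Y)} ⟨_, le_rfl, hD, le_normalizer⟩
  have min : ∀ Y ≤ X, N ⊓ H ≤ 𝐍(Y) → Y = ⊥ ∨ Y = X := fun Y h1 h2 => by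
    by_cases e : Y = ⊥
    · exact Or.inl e
    · exact Or.inr (eq_of_le_of_not_lt h1 (hmin Y ⟨h1.trans hle, e, h2⟩))
  have proj : ∀ T', H74.ONS.Fac N T' →
      X ≤ 𝐂(T') ∨ (X ⊓ 𝐂(T') = ⊥ ∧ ∀ t ∈ T', ∃ x ∈ X, t⁻¹ * x ∈ 𝐂(T')) := fun T' hT => by
    rcases min (X ⊓ 𝐂(T')) inf_le_left (le_normalizer_inf hn (inf_le_left.trans (SA_nT hT))) with h | h
    · refine Or.inr ⟨h, ?_⟩
      let S : Subgroup G :=
        { carrier := {t | t ∈ T' ∧ ∃ x ∈ X, t⁻¹ * x ∈ 𝐂(T')}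
          one_mem' := ⟨one_mem _, 1, one_mem _, by simp⟩
          mul_mem' := by
            rintro a b ⟨ha, x, hx, hx'⟩ ⟨hb, y, hy, hy'⟩
            refine ⟨mul_mem ha hb, x * y, mul_mem hx hy, ?_⟩
            have e : (a * b)⁻¹ * (x * y) = b⁻¹ * (a⁻¹ * x) * b * (b⁻¹ * y) := by group
            rw [e]
            exact mul_mem (hT.conj_mem_centralizer (hT.le hb) hx') hy'
          inv_mem' := by
            rintro a ⟨ha, x, hx, hx'⟩
            refine ⟨inv_mem ha, x⁻¹, inv_mem hx, ?_⟩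
            have e : a⁻¹⁻¹ * x⁻¹ = a⁻¹⁻¹ * (a⁻¹ * x)⁻¹ * a⁻¹ := by group
            rw [e]
            exact hT.conj_mem_centralizer (hT.le (inv_mem ha)) (inv_mem hx') }
      have hSn : ∀ t ∈ T', ∀ s ∈ S, t * s * t⁻¹ ∈ S := by
        rintro t ht s ⟨hs', x, hx, hx'⟩
        obtain ⟨c, hc, hc', he⟩ := hF.sType_of_sType hT hs hS t ht
        refine ⟨mul_mem (mul_mem ht hs') (inv_mem ht), t * c * x * (t * c)⁻¹,
          conj_mem_of_mem_normalizer (hn ⟨mul_mem (hT.le ht) hc, he⟩) hx, ?_⟩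
        have e : (t * s * t⁻¹)⁻¹ * (t * c * x * (t * c)⁻¹) =
            t⁻¹⁻¹ * (s⁻¹ * c * s * (s⁻¹ * x) * c⁻¹) * t⁻¹ := by group
        rw [e]
        exact hT.conj_mem_centralizer (hT.le (inv_mem ht))
          (mul_mem (mul_mem (hT.conj_mem_centralizer (hT.le hs') hc') hx') (inv_mem hc'))
      rcases hT.eq_bot_or_eq (S := S) (fun t ht => ht.1) hSn with e | e
      · exfalso
        refine hne (eq_bot_iff.2 fun x hx => ?_)
        obtain ⟨t, ht, c, hc, hc', rfl⟩ := hT.decomp (hle hx).1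
        have : t ∈ S := ⟨ht, _, hx, by simpa using hc'⟩
        rw [e, mem_bot] at this
        rw [← h]
        exact ⟨hx, by rw [this, one_mul]; exact hc'⟩
      · intro t ht
        rw [← e] at ht
        exact ht.2
    · exact Or.inl (inf_eq_left.1 h)
  obtain ⟨T0, hT0, h0⟩ : ∃ T0, H74.ONS.Fac N T0 ∧ ¬ X ≤ 𝐂(T0) := by
    by_contra hc
    push Not at hc
    exact hne (eq_bot_iff.2 fun x hx => eq_one_of_fac hF (hle hx).1 fun T' hT => hc T' hT hx)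
  obtain ⟨hb, hp⟩ := (proj T0 hT0).resolve_left h0
  have dec : ∀ d ∈ N ⊓ H, ∃ x ∈ X, x⁻¹ * d ∈ 𝐂(X) := fun d hd => by
    obtain ⟨t, ht, c, hc, hc', rfl⟩ := hT0.decomp hd.1
    obtain ⟨x, hx, hx'⟩ := hp t ht
    refine ⟨x, hx, fun y hy => ?_⟩
    have h1 : x⁻¹ * (t * c) ∈ 𝐂(T0) := by
      have e : x⁻¹ * (t * c) = (t⁻¹ * x)⁻¹ * c := by group
      rw [e]
      exact mul_mem (inv_mem hx') hc'
    have h2 : x⁻¹ * (t * c) ∈ 𝐍(X) := hn (mul_mem (inv_mem (hle hx)) hd)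
    generalize x⁻¹ * (t * c) = e at h1 h2
    have h3 : e * y * e⁻¹ * y⁻¹ ∈ X ⊓ 𝐂(T0) := ⟨X.mul_mem (conj_mem_of_mem_normalizer h2 hy) (X.inv_mem hy), by
      have e' : e * y * e⁻¹ * y⁻¹ = e * (y * e⁻¹ * y⁻¹) := by group
      rw [e']
      exact mul_mem h1 (conj_mem_of_mem_normalizer (SA_nT hT0 (hle hy).1) (inv_mem h1))⟩
    rw [hb, mem_bot, mul_inv_eq_one, mul_inv_eq_iff_eq_mul] at h3
    exact h3.symm
  refine ⟨X, hle, hn, ?_, fun hc => hT0.not_comm ⟨⟨fun a b => Subtype.ext ?_⟩⟩, proj, dec⟩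
  · have : Nontrivial X := (nontrivial_iff_ne_bot X).2 hne
    refine ⟨fun K hK => ?_⟩
    rcases min (K.map X.subtype) (map_subtype_le K) (le_normalizer_of_cj_le fun d hd k hk => by
      obtain ⟨_, ⟨a, ha, rfl⟩, rfl⟩ := mem_cj'.1 hk
      obtain ⟨x, hx, hx'⟩ := dec d hd
      refine ⟨⟨x, hx⟩ * a * ⟨x, hx⟩⁻¹, hK.conj_mem a ha _, ?_⟩
      have := hx' a a.2
      change x * a * x⁻¹ = d * a * d⁻¹
      calc x * a * x⁻¹ = x * (a * (x⁻¹ * d)) * d⁻¹ := by group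
        _ = _ := by rw [this]; group) with h | h
    · exact Or.inl ((map_eq_bot_iff_of_injective _ X.subtype_injective).1 h)
    · right
      refine eq_top_iff.2 fun x _ => ?_
      have : (x : G) ∈ K.map X.subtype := by rw [h]; exact x.2
      obtain ⟨a, ha, e⟩ := this
      exact (Subtype.ext e : a = x) ▸ ha
  · obtain ⟨x, hx, hx'⟩ := hp a a.2
    obtain ⟨y, hy, hy'⟩ := hp b b.2
    have e : x * y = y * x := congrArg Subtype.val (hc.is_comm.comm (⟨x, hx⟩ : X) ⟨y, hy⟩)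
    refine hT0.comp_unique (mul_mem a.2 b.2) (mul_mem b.2 a.2)
      (mul_mem (hT0.conj_mem_centralizer (hT0.le b.2) hx') hy')
      (mul_mem (hT0.conj_mem_centralizer (hT0.le a.2) hy') hx') ?_
    simp only [coe_mul]
    calc _ = x * y := by group
      _ = _ := by rw [e]; group

theorem Strip.cj (hF : H74.ONS.Fac N T) (hX : Strip N H X) (g : G) : Strip N (H ^ᶜ g) (X ^ᶜ g) := by
  have := hF.normal
  have eN : N ⊓ H ^ᶜ g = (N ⊓ H) ^ᶜ g := by rw [cj_inf, cj_eq_of_normal N]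
  have φ : X ≃* (X ^ᶜ g : Subgroup G) := by
    rw [← smul_eq_cj]; exact equivSMul (MulAut.conj g) X
  refine ⟨eN ▸ cj_mono g hX.le, ?_, ?_, fun hc => hX.nc ⟨⟨fun a b => φ.injective ?_⟩⟩, fun T' hT => ?_,
    fun d hd => ?_⟩
  · rw [eN, ← cj_normalizer]; exact cj_mono g hX.norm
  · have := hX.simple
    exact φ.symm.isSimpleGroup
  · rw [map_mul, map_mul, hc.is_comm.comm]
  · have hT' : H74.ONS.Fac N (T' ^ᶜ g⁻¹) := by rw [← smul_eq_cj]; exact hT.cj g⁻¹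
    have eC : 𝐂(T') = 𝐂(T' ^ᶜ g⁻¹) ^ᶜ g := by rw [cj_centralizer, cj_inv_cj]
    rcases hX.proj _ hT' with h | ⟨h1, h2⟩
    · left; rw [eC]; exact cj_mono g h
    · refine Or.inr ⟨by rw [eC, ← cj_inf, h1, cj_bot], fun t ht => ?_⟩
      obtain ⟨x, hx, hx'⟩ := h2 _ (cj_mem g⁻¹ ht)
      refine ⟨_, cj_mem g hx, ?_⟩
      rw [eC, mem_cj]
      convert hx' using 1
      group
  · rw [eN, mem_cj] at hd
    obtain ⟨x, hx, hx'⟩ := hX.dec _ hd
    refine ⟨_, cj_mem g hx, ?_⟩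
    rw [← cj_centralizer, mem_cj]
    convert hx' using 1
    group

theorem Strip.cent {T' : Subgroup G} (hF : H74.ONS.Fac N T') (hX : Strip N H X) (hs : ¬ X ≤ 𝐂(T'))
    {c : G} (hc : c ∈ N) (hcX : c ∈ 𝐂(X)) : c ∈ 𝐂(T') := by
  obtain ⟨-, hp⟩ := (hX.proj T' hF).resolve_left hs
  obtain ⟨t, ht, c', -, hc', rfl⟩ := hF.decomp hc
  refine mul_mem (fun s hs' => ?_) hc'
  obtain ⟨x, hx, hx'⟩ := hp s hs'
  have e := hcX x hx
  refine hF.comp_unique (mul_mem hs' ht) (mul_mem ht hs')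
    (mul_mem (hF.conj_mem_centralizer (hF.le ht) hx') hc')
    (mul_mem (hF.conj_mem_centralizer (hF.le hs') hc') hx') ?_
  calc _ = x * (t * c') := by group
    _ = _ := by rw [e]; group

theorem Strip.comm {X' : Subgroup G} (hX : Strip N H X) (hX' : Strip N H X') (hne : X' ≠ X) :
    X' ≤ 𝐂(X) := by
  have hn := le_normalizer_inf hX.norm hX'.norm
  have hb : X ⊓ X' = ⊥ := by
    rcases SA_simple hX.simple inf_le_left (hX.le.trans hn) with h | h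
    · exact h
    rcases SA_simple hX'.simple inf_le_right (hX'.le.trans hn) with h' | h'
    · exact h'
    · exact (hne (h'.symm.trans h)).elim
  intro e he y hy
  have h3 : e * y * e⁻¹ * y⁻¹ ∈ X ⊓ X' :=
    ⟨X.mul_mem (conj_mem_of_mem_normalizer (hX.norm (hX'.le he)) hy) (X.inv_mem hy), by
      have e' : e * y * e⁻¹ * y⁻¹ = e * (y * e⁻¹ * y⁻¹) := by group
      rw [e']
      exact mul_mem he (conj_mem_of_mem_normalizer (hX'.norm (hX.le hy)) (inv_mem he))⟩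
  rw [hb, mem_bot, mul_inv_eq_one, mul_inv_eq_iff_eq_mul] at h3
  exact h3.symm

theorem Strip.key (hF : H74.ONS.Fac N T) (hX : Strip N H X) {m x c : G} (hm : m ∈ N) (hx : x ∈ X)
    (hc : c ∈ N) (hcX : c ∈ 𝐂(X)) (he : x * c ∈ H ^ᶜ m) : x ∈ X ^ᶜ m := by
  have hY := hX.cj hF m
  have hxN := (hX.le hx).1
  obtain ⟨x', hx', hc'⟩ := hY.dec _ ⟨mul_mem hxN hc, he⟩
  have hxN' := (hY.le hx').1
  have : x'⁻¹ * x = 1 := eq_one_of_fac hF (mul_mem (inv_mem hxN') hxN) fun T' hT => by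
    have eC : 𝐂(T') ^ᶜ m = 𝐂(T') := cj_eq_of_mem_normalizer (SA_nT hT hm)
    have iff : X ^ᶜ m ≤ 𝐂(T') ↔ X ≤ 𝐂(T') := by
      conv_lhs => rw [← eC]
      exact cj_le_cj_iff
    by_cases h : X ≤ 𝐂(T')
    · exact mul_mem (inv_mem (iff.2 h hx')) (h hx)
    · have h1 := hX.cent hT h hc hcX
      have h2 := hY.cent hT (mt iff.1 h) (mul_mem (inv_mem hxN') (mul_mem hxN hc)) hc'
      have e : x'⁻¹ * x = x'⁻¹ * (x * c) * c⁻¹ := by group
      rw [e]
      exact mul_mem h2 (inv_mem h1)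
  rw [inv_mul_eq_one] at this
  exact this ▸ hx'

end H45.DSC
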