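import Mathlib
import Cfsg.Agent.Lib.DSC.HM
import Cfsg.Agent.Lib.DSC.SA

/-! See `blueprint/DSC/README.md`. -/

set_option autoImplicit false
set_option linter.unusedSectionVars false
set_option linter.unusedVariables false

namespace H45.DSC

open Subgroup MulAction H69
open scoped commutatorElement

universe u

variable {G Ω : Type*} [Group G] [Finite G] [MulAction G Ω] [Finite Ω] {α β : Ω}
  {N T H X : Subgroup G}

theorem Sc.sd (h : Sc G α β) (hF : H74.ONS.Fac N T) (hS : H74.ONS.SType N T (stabilizer G α)) :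
    Dg G α β := by
  have := h.faith
  obtain ⟨g₀, a₀, b₀⟩ := h.mv
  have : Nontrivial Ω := ⟨_, _, b₀⟩
  have hs := H74.ONS.sup_stabilizer_eq_top h.prim hF.normal hF.N_ne_bot α
  obtain ⟨⟨m, hm⟩, em⟩ :=
    (H75.normal_isPretransitive' h.prim N hF.normal hF.N_ne_bot).exists_smul_eq α β
  replace em : m • α = β := em
  have eβ : stabilizer G α ^ᶜ m = stabilizer G β := by
    ext x
    rw [mem_cj, mem_stabilizer_iff, mem_stabilizer_iff, mul_smul, mul_smul, em, inv_smul_eq_iff, em]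
  obtain ⟨X, hX⟩ := exists_strip hF hs hS
  have st : ∀ g : G, g • α = α → Strip N (stabilizer G α) (X ^ᶜ g) := fun g hg => by
    have := hX.cj hF g
    rwa [cj_eq_of_mem (A := stabilizer G α) hg] at this
  have X1 : X ≠ ⊥ := fun e => hX.nc (e ▸ inferInstance)
  have key : ∀ {Y : Subgroup G}, Strip N (stabilizer G α) Y → ∀ x ∈ Y, ∀ c ∈ N, c ∈ 𝐂(Y) →
      (x * c) • β = β → x • β = β := fun hY x hx c hc hcY e =>
    eβ.le (cj_mono m (hY.le.trans inf_le_right) (hY.key hF hm hx hc hcY (eβ.ge e)))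
  have nD : stabilizer G α ≤ 𝐍(N ⊓ stabilizer G α) := fun g hg => cj_eq_self_iff.1 (by
    have := hF.normal
    rw [cj_inf, cj_eq_of_normal, cj_eq_of_mem hg])
  obtain ⟨hn, hv⟩ := h.ham (E := N ⊓ stabilizer G α) (hX.le.trans inf_le_right) inf_le_right
    (fun g hg => (st g hg).norm)
    (fun g hg => h.tr inf_le_right nD (h.moves hF.normal fun e => X1 (eq_bot_iff.2 (e ▸ hX.le))) hg)
    (by
      by_contra hc
      push Not at hc
      have h1 : ∀ g : stabilizer G α, (X ^ᶜ (g : G)) ^ᶜ m⁻¹ = X ^ᶜ (g : G) := fun g =>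
        cj_eq_of_cj_le (cj_le_iff.2 fun x hx => by
          rw [inv_inv]
          exact (st g g.2).key hF hm hx (one_mem _) (one_mem _) (by rw [mul_one, eβ]; exact hc g g.2 hx))
      have h2 : m ∈ 𝐍(⨆ g : stabilizer G α, X ^ᶜ (g : G)) :=
        inv_mem_iff.1 (cj_eq_self_iff.1 (by rw [cj_iSup]; exact iSup_congr h1))
      have h3 : stabilizer G α ≤ 𝐍(⨆ g : stabilizer G α, X ^ᶜ (g : G)) := fun k hk =>
        cj_eq_self_iff.1 (cj_eq_of_cj_le (by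
          rw [cj_iSup]
          refine iSup_le fun g => ?_
          rw [cj_cj]
          exact le_iSup (fun g : stabilizer G α => X ^ᶜ (g : G)) ⟨k * g, mul_mem hk g.2⟩))
      have h4 := h.eq_bot (iSup_le fun g : stabilizer G α => (st g g.2).le.trans inf_le_right) h3
        (eβ ▸ cj_le_of_mem h3 h2)
      have h5 := le_iSup (fun g : stabilizer G α => X ^ᶜ (g : G)) 1
      rw [h4, OneMemClass.coe_one, cj_one] at h5
      exact X1 (eq_bot_iff.2 h5))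
    (fun g₂ g₃ h₂ h₃ ne x₁ m₁ x₂ m₂ x₃ m₃ e => by
      by_cases e3 : X ^ᶜ g₃ = X
      · rw [e3] at m₃
        have c := (st g₂ h₂).comm hX ne.symm (mul_mem (inv_mem m₃) m₁)
        exact .inr (key (st g₂ h₂) x₂ m₂ _ (hX.le (mul_mem (inv_mem m₃) m₁)).1 c (by rwa [c x₂ m₂]))
      · have c := inv_mem (hX.comm (st g₃ h₃) e3 m₃)
        refine .inl (key hX x₁ m₁ (x₃⁻¹ * x₂) (mul_mem (inv_mem ((st g₃ h₃).le m₃).1) ((st g₂ h₂).le m₂).1)
          (mul_mem c (hX.comm (st g₂ h₂) ne m₂)) ?_)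
        rwa [← mul_assoc, c x₁ m₁])
  have nc : ∀ T', H74.ONS.Fac N T' → ¬ X ≤ 𝐂(T') := fun T' h' hc => X1 (eq_bot_iff.2 fun x hx =>
    eq_one_of_fac hF (hX.le hx).1 fun T'' h'' => by
      obtain ⟨k, hk, rfl⟩ := h'.exists_cj_eq_of_sup h'' hs
      exact H74.ONS.mem_centralizer_cj.2 (hc ((mem_normalizer_iff''.1 (hn hk) x).1 hx)))
  have XD : ∀ d ∈ N ⊓ stabilizer G α, d ∈ X := fun d hd => by
    obtain ⟨x, hx, c⟩ := hX.dec d hd
    have hc : x⁻¹ * d ∈ N := N.mul_mem (N.inv_mem (hX.le hx).1) hd.1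
    rwa [← inv_mul_eq_one.1 (eq_one_of_fac hF hc fun T' h' => hX.cent h' (nc T' h') hc c)]
  have ex : ∀ T', H74.ONS.Fac N T' → ∃ d ∈ X, m⁻¹ * d ∈ 𝐂(T') := fun T' h' => by
    obtain ⟨s, hs, c, -, hc, e⟩ := h'.decomp hm
    obtain ⟨d, hd, k⟩ := ((hX.proj T' h').resolve_left (nc T' h')).2 s hs
    exact ⟨d, hd, by rw [e, mul_inv_rev, mul_assoc]; exact mul_mem (inv_mem hc) k⟩
  have cj : ∀ T', H74.ONS.Fac N T' → ∀ d ∈ X, m⁻¹ * d ∈ 𝐂(T') → ∀ e ∈ X, e • β = β →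
      m⁻¹ * e * m = d⁻¹ * e * d := fun T' h' d hd c e he eb => by
    have e1 : m⁻¹ * e * m ∈ N := hF.normal.conj_mem' e (hX.le he).1 m
    have e2 := XD _ ⟨e1, mem_cj.1 (eβ.ge eb)⟩
    have e3 : (m⁻¹ * e * m)⁻¹ * (d⁻¹ * e * d) ∈ X ⊓ 𝐂(T') :=
      ⟨X.mul_mem (X.inv_mem e2) (X.mul_mem (X.mul_mem (X.inv_mem hd) he) hd), by
        have := mul_mem (h'.conj_mem_centralizer e1 (inv_mem c)) c
        rwa [show (m⁻¹ * e * m)⁻¹ * (m⁻¹ * d)⁻¹ * (m⁻¹ * e * m) * (m⁻¹ * d) =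
          (m⁻¹ * e * m)⁻¹ * (d⁻¹ * e * d) by group] at this⟩
    rw [((hX.proj T' h').resolve_left (nc T' h')).1] at e3
    exact inv_mul_eq_one.1 e3
  obtain ⟨d₁, m₁, c₁⟩ := ex T hF
  obtain ⟨T₂, h₂, n₂⟩ : ∃ T', H74.ONS.Fac N T' ∧ m⁻¹ * d₁ ∉ 𝐂(T') := by
    by_contra hc
    push Not at hc
    have e := inv_mul_eq_one.1 (eq_one_of_fac hF (mul_mem (inv_mem hm) (hX.le m₁).1) hc)
    have e' : d₁ • α = α := (hX.le m₁).2
    rw [e, e'] at em
    exact b₀ (em ▸ a₀)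
  obtain ⟨d₂, m₂, c₂⟩ := ex T₂ h₂
  refine ⟨X, hX.le.trans inf_le_right, hn, hX.simple, hX.nc, hv, d₁ * d₂⁻¹, mul_mem m₁ (inv_mem m₂),
    fun e => n₂ (mul_inv_eq_one.1 e ▸ c₂), fun e he eb => ?_⟩
  have := (cj T hF d₁ m₁ c₁ e he eb).symm.trans (cj T₂ h₂ d₂ m₂ c₂ e he eb)
  calc e * (d₁ * d₂⁻¹) = d₁ * (d₁⁻¹ * e * d₁) * d₂⁻¹ := by group
    _ = d₁ * d₂⁻¹ * e := by rw [this]; group

end H45.DSC
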