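import Mathlib
import Cfsg.Agent.Lib.DSC.T1
import Cfsg.Agent.Lib.Char.FrobeniusKernel

/-! See `blueprint/DSC/README.md`. -/

set_option autoImplicit false
set_option linter.unusedSectionVars false
set_option linter.unusedVariables false

namespace H45.DSC

open Subgroup MulAction H69
open scoped commutatorElement

universe u

variable {A Γ : Type*} [Group A] [Finite A] [MulAction A Γ] [Finite Γ] {T : Subgroup A} {β γ : Γ}

theorem Co.U2_eq (h : Co Γ T) (hne : β ≠ γ) {δ ε : Γ} (hδ : δ ∈ Ln T β γ) (hε : ε ∈ Ln T β γ)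
    (hd : δ ≠ ε) : U2 T δ ε = U2 T β γ := by
  obtain ⟨g, g1, g2⟩ := h.T1_two hne hd
  refine (eq_of_le_of_card_ge (fun u hu => mem_U2.2 ⟨(mem_U2.1 hu).1, hδ u hu, hε u hu⟩) ?_).symm
  rw [← g1, ← g2, ← h.U2_cj, card_cj]

theorem Co.witt (h : Co Γ T) (hne : β ≠ γ) {δ ε : Γ} (hδ : δ ∈ Ln T β γ) (hε : ε ∈ Ln T β γ)
    (hd : δ ≠ ε) : ∃ g ∈ 𝐍(U2 T β γ), g • β = δ ∧ g • γ = ε := by
  obtain ⟨g, g1, g2⟩ := h.T1_two hne hd
  exact ⟨g, cj_eq_self_iff.1 (by rw [h.U2_cj, g1, g2, h.U2_eq hne hδ hε hd]), g1, g2⟩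

theorem smul_mem_Ln {g : A} (hg : g ∈ 𝐍(U2 T β γ)) {δ : Γ} (hδ : δ ∈ Ln T β γ) : g • δ ∈ Ln T β γ := fun u hu => by
  have := hδ _ (conj_mem_of_mem_normalizer' hg hu)
  rwa [mul_smul, mul_smul, inv_smul_eq_iff] at this

theorem T2_left (T : Subgroup A) (β γ : Γ) : β ∈ Ln T β γ := fun _ hu => (mem_U2.1 hu).2.1

theorem Co.tr_of_norm (h : Co Γ T) (hne : β ≠ γ) {K : Subgroup A} (h1 : K ≤ 𝐍(U2 T β γ))
    (h2 : 𝐍(U2 T β γ) ≤ 𝐍(K)) (h3 : ∃ k ∈ K, k • β ≠ β) {δ : Γ} (hδ : δ ∈ Ln T β γ) :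
    ∃ k ∈ K, k • β = δ := by
  by_cases e : δ = β
  · exact ⟨1, one_mem _, by rw [one_smul, e]⟩
  obtain ⟨k, hk, k1⟩ := h3
  obtain ⟨a, ha, a1, a2⟩ := h.witt hne (T2_left T β γ) (smul_mem_Ln (h1 hk) (T2_left T β γ)) k1.symm
  obtain ⟨b, hb, b1, b2⟩ := h.witt hne (T2_left T β γ) hδ (Ne.symm e)
  refine ⟨_, conj_mem_of_mem_normalizer (h2 (mul_mem hb (inv_mem ha))) hk, ?_⟩
  rw [mul_inv_rev, inv_inv, mul_smul, mul_smul, mul_smul, mul_smul, inv_smul_eq_iff.2 b1.symm, a1, ← a2,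
    inv_smul_smul, b2]

theorem Co.exists_ker (h : Co Γ T) (hne : β ≠ γ) (hZ : Z T β ≠ ⊥) : ∃ K, Ker T β γ K := by
  have l := T2_left T β γ
  set U := U2 T β γ with hU
  set B := T ⊓ 𝐍(U)
  have nB : 𝐍(U) ≤ 𝐍(B) := le_normalizer_inf (le_top.trans (normal_iff_top_le_normalizer.1 h.normal))
    (normalizer_le_normalizer_normalizer _)
  have UB : U ≤ B := le_inf (fun u hu => (mem_U2.1 hu).1) le_normalizer
  have tr : ∀ δ ∈ Ln T β γ, ∃ k ∈ B, k • β = δ := fun δ hδ => by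
    obtain ⟨g, -, e⟩ := h.trans β γ
    obtain ⟨⟨z, hz⟩, z1⟩ := ne_bot_iff_exists_ne_one.1 (mt cj_eq_bot_iff.1 hZ : Z T β ^ᶜ g ≠ ⊥)
    rw [h.Z_cj, e] at hz
    refine h.tr_of_norm hne inf_le_right nB ⟨z, ⟨(mem_Z.1 hz).1, centralizer_le_normalizer _ fun u hu => ?_⟩,
      fun q => hne (h.semi hz (fun e => z1 (Subtype.ext e)) q)⟩ hδ
    exact ((mem_Z.1 hz).2.2 u (mem_U2.1 hu).1 (mem_U2.1 hu).2.2).eq
  have : (U.subgroupOf B).Normal := (normal_subgroupOf_iff_le_normalizer UB).2 inf_le_right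
  let π := QuotientGroup.mk' (U.subgroupOf B)
  have p1 : ∀ g : B, π g = 1 ↔ (g : A) ∈ U := fun g => QuotientGroup.eq_one_iff g
  have p2 : ∀ g : B, π g ∈ ((stabilizer A β).subgroupOf B).map π ↔ (g : A) • β = β := fun g => by
    refine ⟨fun ⟨s, hs, e⟩ => ?_, fun e => ⟨g, e, rfl⟩⟩
    have := (mem_U2.1 ((p1 (s⁻¹ * g)).1 (by rw [map_mul, map_inv, e, inv_mul_cancel]))).2.1
    rwa [coe_mul, mul_smul, coe_inv, inv_smul_eq_iff, show (s : A) • β = β from hs] at this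
  obtain ⟨N, -, hN, hc⟩ := H8.exists_frobenius_kernel (H := ((stabilizer A β).subgroupOf B).map π) (by
    intro g hg t ht e
    obtain ⟨g, rfl⟩ := QuotientGroup.mk'_surjective _ g
    obtain ⟨t, rfl⟩ := QuotientGroup.mk'_surjective _ t
    rw [← map_inv, ← map_mul, ← map_mul, p2, coe_mul, coe_mul, mul_smul, mul_smul, coe_inv,
      ← eq_inv_smul_iff] at e
    rw [p1, hU, ← h.U2_eq hne l (smul_mem_Ln (inv_mem g.2.2) l) fun q => hg ((p2 g).2 (eq_inv_smul_iff.1 q))]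
    exact mem_U2.2 ⟨t.2.1, (p2 t).1 ht, e⟩)
  have k : ∀ x, x ∈ (N.comap π).map B.subtype ↔ x ∈ B ∧ (x ∈ U ∨ ∀ δ ∈ Ln T β γ, x • δ ≠ δ) := fun x => by
    have : ∀ x : B, π x ∈ N ↔ (x : A) ∈ U ∨ ∀ δ ∈ Ln T β γ, (x : A) • δ ≠ δ := fun x => by
      have q : ∀ g : B, (π g)⁻¹ * π x * π g ∈ ((stabilizer A β).subgroupOf B).map π ↔
          (x : A) • (g : A) • β = (g : A) • β := fun g => by
        rw [← map_inv, ← map_mul, ← map_mul, p2]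
        exact T1_fix
      rw [hN, p1]
      refine or_congr_right ⟨fun e δ hδ => ?_, fun e g => ?_⟩
      · obtain ⟨g, hg, rfl⟩ := tr δ hδ
        exact mt (q ⟨g, hg⟩).2 (e _)
      · obtain ⟨g, rfl⟩ := QuotientGroup.mk'_surjective _ g
        exact mt (q g).1 (e _ (smul_mem_Ln g.2.2 l))
    exact ⟨fun ⟨y, hy, e⟩ => e ▸ ⟨y.2, (this y).1 hy⟩, fun ⟨hx, e⟩ => ⟨⟨x, hx⟩, (this _).2 e, rfl⟩⟩
  refine ⟨(N.comap π).map B.subtype, map_subtype_le _, le_normalizer_of_cj_le fun g hg x hx => ?_,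
    fun u hu => (k u).2 ⟨UB hu, Or.inl hu⟩, fun δ hδ => ?_,
    fun x hx δ hδ e => ((k x).1 hx).2.resolve_right fun q => q δ hδ e⟩
  · obtain ⟨y, hy, rfl⟩ := mem_cj'.1 hx
    obtain ⟨y1, y2⟩ := (k y).1 hy
    refine (k _).2 ⟨conj_mem_of_mem_normalizer (nB hg) y1, y2.imp (conj_mem_of_mem_normalizer hg)
      fun q δ hδ e => q _ (smul_mem_Ln (inv_mem hg) hδ) ?_⟩
    rwa [mul_smul, mul_smul, ← eq_inv_smul_iff] at e
  · obtain ⟨g, hg, rfl⟩ := tr δ hδ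
    obtain ⟨⟨n, _, s, hs, rfl⟩, e⟩ := hc.2 (π ⟨g, hg⟩)
    refine ⟨_, ⟨⟨g, hg⟩ * s⁻¹, ?_, rfl⟩, ?_⟩
    · rw [SetLike.mem_coe, mem_comap, map_mul, map_inv, ← e]
      simp
    · show (g * (s : A)⁻¹) • β = _
      rw [mul_smul, inv_smul_eq_iff.2 (show (s : A) • β = β from hs).symm]

end H45.DSC
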