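import Mathlib
import Cfsg.Agent.Lib.DSC.T2

/-! See `blueprint/DSC/README.md`. -/

set_option autoImplicit false
set_option linter.unusedSectionVars false
set_option linter.unusedVariables false

namespace H45.DSC

open Subgroup MulAction H69
open scoped commutatorElement

universe u

variable {A Γ : Type*} [Group A] [Finite A] [MulAction A Γ] [Finite Γ] {T : Subgroup A} {β γ : Γ}

private theorem exists_pow_prime {U : Subgroup A} {g : A} (hg : g ∉ U) :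
    ∀ m : ℕ, 0 < m → g ^ m ∈ U → ∃ n r : ℕ, r.Prime ∧ g ^ n ∉ U ∧ (g ^ n) ^ r ∈ U := by
  intro m
  induction m using Nat.strong_induction_on with
  | _ m ih =>
    intro h0 hm
    have h1 : m ≠ 1 := by rintro rfl; exact hg (by simpa using hm)
    have hp := Nat.minFac_prime h1
    obtain ⟨c, hc⟩ := Nat.minFac_dvd m
    have hc0 : 0 < c := Nat.pos_of_ne_zero (by rintro rfl; omega)
    by_cases h2 : g ^ c ∈ U
    · exact ih c (by have := hp.two_le; nlinarith) hc0 h2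
    · exact ⟨c, m.minFac, hp, h2, by rw [← pow_mul, mul_comm, ← hc]; exact hm⟩

private theorem pow_mul_mem {U : Subgroup A} {a u : A} (ha : a ∈ 𝐍(U)) (hu : u ∈ U) (n : ℕ) :
    (a ^ n)⁻¹ * (a * u) ^ n ∈ U := by
  induction n with
  | zero => simp
  | succ n ih =>
    have e : (a ^ (n + 1))⁻¹ * (a * u) ^ (n + 1) =
        a⁻¹ * ((a ^ n)⁻¹ * (a * u) ^ n) * a⁻¹⁻¹ * u := by
      rw [pow_succ' a n, pow_succ (a * u) n, mul_inv_rev]
      have : (a ^ n)⁻¹ * a⁻¹ = a⁻¹ * (a ^ n)⁻¹ := by group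
      rw [this]; group
    rw [e]
    exact mul_mem ((mem_normalizer_iff.1 (inv_mem ha) _).1 ih) hu

private theorem left_mem_Ln : β ∈ Ln T β γ := fun _ hu => (mem_U2.1 hu).2.1

private theorem right_mem_Ln : γ ∈ Ln T β γ := fun _ hu => (mem_U2.1 hu).2.2

theorem Co.ker_exp (h : Co Γ T) (hne : β ≠ γ) {K : Subgroup A} (hK : Ker T β γ K) :
    ∃ r : ℕ, r.Prime ∧ ∀ k ∈ K, k ^ r ∈ U2 T β γ := by
  obtain ⟨k₁, hk₁, e₁⟩ := hK.tr γ right_mem_Ln
  have h1 : k₁ ∉ U2 T β γ := fun hu => hne ((mem_U2.1 hu).2.1.symm.trans e₁)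
  obtain ⟨n, r, hr, h2, h3⟩ := exists_pow_prime h1 (orderOf k₁) (orderOf_pos _)
    (by rw [pow_orderOf_eq_one]; exact one_mem _)
  have hk₀ : k₁ ^ n ∈ K := pow_mem hk₁ n
  generalize k₁ ^ n = k₀ at h2 h3 hk₀
  refine ⟨r, hr, fun k hk => ?_⟩
  by_cases hu : k ∈ U2 T β γ
  · exact pow_mem hu r
  have m0 : β ≠ k₀ • β := fun e => h2 (hK.reg _ hk₀ β left_mem_Ln e.symm)
  have m1 : β ≠ k • β := fun e => hu (hK.reg _ hk β left_mem_Ln e.symm)
  obtain ⟨g₁, hg₁, a₁, b₁⟩ := h.witt hne left_mem_Ln (smul_mem_Ln (hK.le hk₀).2 left_mem_Ln) m0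
  obtain ⟨g₂, hg₂, a₂, b₂⟩ := h.witt hne left_mem_Ln (smul_mem_Ln (hK.le hk).2 left_mem_Ln) m1
  have hg : g₂ * g₁⁻¹ ∈ 𝐍(U2 T β γ) := mul_mem hg₂ (inv_mem hg₁)
  have a₃ : (g₂ * g₁⁻¹)⁻¹ • β = β := by
    rw [inv_smul_eq_iff, mul_smul, (inv_smul_eq_iff.2 a₁.symm), a₂]
  have b₃ : (g₂ * g₁⁻¹) • k₀ • β = k • β := by rw [← b₁, mul_smul, inv_smul_smul, b₂]
  generalize g₂ * g₁⁻¹ = g at hg a₃ b₃
  have hk' : g * k₀ * g⁻¹ ∈ K := (mem_normalizer_iff.1 (hK.norm hg) _).1 hk₀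
  have hp' : (g * k₀ * g⁻¹) ^ r ∈ U2 T β γ := by
    rw [conj_pow]; exact (mem_normalizer_iff.1 hg _).1 h3
  have hm' : (g * k₀ * g⁻¹) • β = k • β := by rw [mul_smul, mul_smul, a₃, b₃]
  generalize g * k₀ * g⁻¹ = a at hk' hp' hm'
  have hu' : a⁻¹ * k ∈ U2 T β γ :=
    hK.reg _ (mul_mem (inv_mem hk') hk) β left_mem_Ln (by rw [mul_smul, ← hm', inv_smul_smul])
  have := mul_mem hp' (pow_mul_mem (hK.le hk').2 hu' r)
  simpa using this

/-- the `r`-elements of a group which is an `r`-group modulo its centre form a subgroup -/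
private theorem exists_O {L : Subgroup A} {r : ℕ} (hr : r.Prime)
    (hc : ∀ a ∈ L, ∀ b ∈ L, Commute b (a ^ r)) :
    ∃ O : Subgroup A, ∀ a, a ∈ O ↔ a ∈ L ∧ ∃ e : ℕ, a ^ r ^ e = 1 := by
  haveI := Fact.mk hr
  have hq : IsPGroup r (L ⧸ center L) := by
    intro x
    obtain ⟨a, rfl⟩ := QuotientGroup.mk_surjective x
    refine ⟨1, ?_⟩
    rw [pow_one, ← QuotientGroup.mk_pow, QuotientGroup.eq_one_iff, mem_center_iff]
    intro b
    exact Subtype.ext (hc a a.2 b b.2).eq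
  obtain ⟨j, hj⟩ := hq.exists_card_eq
  have hi : (center L).index = r ^ j := hj
  refine ⟨{ carrier := {a | a ∈ L ∧ ∃ e : ℕ, a ^ r ^ e = 1}
            one_mem' := ⟨one_mem _, 0, one_pow _⟩
            inv_mem' := ?_
            mul_mem' := ?_ }, fun a => Iff.rfl⟩
  · rintro a b ⟨ha, e, he⟩ ⟨hb, f, hf⟩
    refine ⟨mul_mem ha hb, j + (e + f), ?_⟩
    have h1 := congrArg (fun x : center L => ((x : L) : A))
      ((MonoidHom.transferCenterPow L).map_mul ⟨a, ha⟩ ⟨b, hb⟩)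
    simp only [MonoidHom.transferCenterPow_apply, Subgroup.coe_mul, hi, Subgroup.coe_pow] at h1
    have h2 : Commute (a ^ r ^ j) (b ^ r ^ j) := by
      have h3 := mem_center_iff.1 ((center L).pow_index_mem ⟨b, hb⟩) (⟨a, ha⟩ ^ r ^ j)
      rw [hi] at h3
      exact congrArg Subtype.val h3
    rw [pow_add, pow_mul, h1, h2.mul_pow, ← pow_mul, ← pow_mul, mul_comm (r ^ j), pow_mul, pow_mul,
      pow_add, pow_mul, he, mul_comm (r ^ e), pow_mul, hf]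
    simp
  · rintro a ⟨ha, e, he⟩
    exact ⟨inv_mem ha, e, by rw [inv_pow, he, inv_one]⟩

theorem Co.exists_tr (h : Co Γ T) (hne : β ≠ γ) (hZ : Z T β ≠ ⊥) : ∃ r O, Tr T β γ r O := by
  obtain ⟨K, hK⟩ := h.exists_ker hne hZ
  obtain ⟨r, hr, hexp⟩ := h.ker_exp hne hK
  haveI := Fact.mk hr
  have hZC : Z T β ≤ 𝐂(U2 T β γ) := fun z hz u hu =>
    ((mem_Z.1 hz).2.2 u (mem_U2.1 hu).1 (mem_U2.1 hu).2.1).eq
  have hZN : Z T β ≤ 𝐍(U2 T β γ) := hZC.trans (centralizer_le_normalizer _)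
  have hN : 𝐍(U2 T β γ) ≤ 𝐍(K ⊓ 𝐂(U2 T β γ)) :=
    le_normalizer_inf hK.norm (normalizer_le_normalizer_centralizer _)
  obtain ⟨k₂, hk₂, e₂⟩ : ∃ k ∈ K ⊓ 𝐂(U2 T β γ), k • β = γ := by
    refine h.tr_of_norm hne (inf_le_left.trans (hK.le.trans inf_le_right)) hN ?_ right_mem_Ln
    obtain ⟨⟨z, hz⟩, hz1⟩ := ne_bot_iff_exists_ne_one.1 hZ
    have hz1 : z ≠ 1 := fun e => hz1 (Subtype.ext e)
    obtain ⟨k, hk, e⟩ := hK.tr γ right_mem_Ln
    have hz' : k * z * k⁻¹ ∈ Z T γ := by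
      rw [← e, ← h.Z_cj]; exact cj_mem k hz
    refine ⟨k * z * k⁻¹ * z⁻¹, mem_inf.2 ⟨?_, mul_mem ?_ (inv_mem (hZC hz))⟩, fun e' => ?_⟩
    · have := mul_mem hk ((mem_normalizer_iff.1 (hK.norm (hZN hz)) _).1 (inv_mem hk))
      simpa only [mul_assoc] using this
    · exact fun u hu => ((mem_Z.1 hz').2.2 u (mem_U2.1 hu).1 (mem_U2.1 hu).2.2).eq
    · rw [mul_smul, inv_smul_eq_iff.2 (mem_Z.1 hz).2.1.symm] at e'
      exact hne (h.semi hz' (by simpa using hz1) e')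
  obtain ⟨O, hO⟩ := exists_O (L := K ⊓ 𝐂(U2 T β γ)) hr
    fun a ha b hb => (hb.2 _ (hexp a ha.1)).symm
  have hp : IsPGroup r O := fun a => by
    obtain ⟨-, e, he⟩ := (hO a).1 a.2
    exact ⟨e, Subtype.ext he⟩
  have hn : Z T β ≤ 𝐍(O) := fun z hz => mem_normalizer_iff.2 fun a => by
    rw [hO, hO, ← mem_normalizer_iff.1 (hN (hZN hz)) a]
    simp only [conj_pow, conj_eq_one_iff]
  have hmv : ∃ k ∈ O, k • β = γ := by
    obtain ⟨e, m, hm, hem⟩ := Nat.exists_eq_pow_mul_and_not_dvd (orderOf_pos k₂).ne' r hr.ne_one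
    have h1 : m ^ (r - 1) ≡ 1 [MOD r] := by
      have := Nat.ModEq.pow_totient ((Nat.Prime.coprime_iff_not_dvd hr).2 hm).symm
      rwa [Nat.totient_prime hr] at this
    have h0 : 1 ≤ m ^ (r - 1) := Nat.one_le_pow _ _ (Nat.pos_of_ne_zero (by rintro rfl; simp at hm))
    obtain ⟨q, hq⟩ := (Nat.modEq_iff_dvd' h0).1 h1.symm
    refine ⟨k₂ ^ m ^ (r - 1), (hO _).2 ⟨pow_mem hk₂ _, e, ?_⟩, ?_⟩
    · rw [← pow_mul, ← orderOf_dvd_iff_pow_eq_one, hem, mul_comm]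
      exact mul_dvd_mul_right (dvd_pow_self _ (by have := hr.two_le; omega)) _
    · rw [show m ^ (r - 1) = 1 + r * q by omega, pow_add, pow_one, pow_mul, mul_smul,
        (mem_U2.1 (pow_mem (hexp _ hk₂.1) q)).2.1, e₂]
  refine ⟨r, O, hr, fun a ha => (hK.le ((hO a).1 ha).1.1).1, hp, hn, hmv,
    fun a ha => (mem_U2.1 (hexp a ((hO a).1 ha).1.1)).2.1, fun z hz ho => ?_⟩
  have hzp : IsPGroup r (zpowers z) := IsPGroup.of_card (n := 1) (by rw [Nat.card_zpowers, ho, pow_one])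
  have hS : IsPGroup r (zpowers z ⊔ O : Subgroup A) :=
    hzp.to_sup_of_normal_right' hp (zpowers_le.2 (hn hz))
  have hlt : (zpowers z ⊔ O) ⊓ stabilizer A β < zpowers z ⊔ O := by
    refine lt_of_le_of_ne inf_le_left fun e => ?_
    obtain ⟨k, hk, ek⟩ := hmv
    have : k ∈ (zpowers z ⊔ O) ⊓ stabilizer A β := by rw [e]; exact mem_sup_right hk
    exact hne ((mem_stabilizer_iff.1 this.2).symm.trans ek)
  obtain ⟨a, ha, ha'⟩ := SetLike.exists_of_lt (lt_inf_normalizer_of_lt hS hlt)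
  have hzS : z ∈ (zpowers z ⊔ O) ⊓ stabilizer A β :=
    ⟨mem_sup_left (mem_zpowers z), (mem_Z.1 hz).2.1⟩
  have h2 := ((mem_normalizer_iff.1 (inv_mem ha.2) _).1 hzS).2
  have h3 : z • a • β = a • β := by
    have h4 : (a⁻¹ * z * a⁻¹⁻¹) • β = β := h2
    rwa [inv_inv, mul_smul, mul_smul, inv_smul_eq_iff] at h4
  have h1 : z ≠ 1 := by rintro rfl; rw [orderOf_one] at ho; exact hr.ne_one ho.symm
  exact ha' ⟨ha.1, h.semi hz h1 h3⟩

theorem Co.cyc (h : Co Γ T) (β : Γ) : IsCyclic (Z T β) := by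
  by_cases hZ : Z T β = ⊥
  · rw [hZ]; infer_instance
  haveI := h.nt
  obtain ⟨γ, hγ⟩ := exists_ne β
  obtain ⟨r, O, ht⟩ := h.exists_tr hγ.symm hZ
  haveI := Fact.mk ht.rp
  by_contra hc
  have hab : IsMulCommutative (Z T β) :=
    le_centralizer_iff_isMulCommutative.1 fun a ha b hb =>
      ((mem_Z.1 ha).2.2 b (mem_Z.1 hb).1 (mem_Z.1 hb).2.1).eq
  have hcop : (Nat.card (Z T β)).Coprime (Nat.card O) := by
    obtain ⟨j, hj⟩ := ht.pg.exists_card_eq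
    rw [hj]
    refine Nat.Coprime.pow_right _ ((Nat.Prime.coprime_iff_not_dvd ht.rp).2 fun hd => ?_).symm
    obtain ⟨z, hz⟩ := exists_prime_orderOf_dvd_card' r hd
    exact ht.ne z z.2 (by rw [Subgroup.orderOf_coe, hz])
  have hle : O ≤ stabilizer A β :=
    H2.le_of_forall_centralizer_le hab hc ht.norm hcop fun z hz h1 a ha =>
      h.cent_eq (mem_Z.1 hz).1 h1 (mem_Z.1 hz).2.2 (ht.le ha.1)
        (mem_centralizer_singleton_iff.1 ha.2)
  obtain ⟨k, hk, e⟩ := ht.mv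
  exact hγ (e.symm.trans (hle hk))

end H45.DSC
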